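import Cfsg.Agent.H75.AbelianIndex.Data

/-!
Automorphisms stabilizing a central series of length two, and extension from the centre.
-/

set_option autoImplicit false
set_option linter.style.haveILetI false

open Cfsg Cfsg.FusionSystem H75.SmallIndex
open scoped commutatorElement

namespace H75.AbelianIndex

/-- The automorphisms fixing `B` pointwise and trivial on the cosets of `B`. -/
def chainStab {G : Type*} [Group G] (B : Subgroup G) : Subgroup (MulAut G) where
  carrier := {β | (∀ b ∈ B, β b = b) ∧ ∀ y, y⁻¹ * β y ∈ B}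
  one_mem' := ⟨fun _ _ => rfl, fun y => by simp⟩
  mul_mem' := by
    rintro β γ ⟨hβ, hβ'⟩ ⟨hγ, hγ'⟩
    refine ⟨fun b hb => by rw [MulAut.mul_apply, hγ b hb, hβ b hb], fun y => ?_⟩
    have e : y⁻¹ * (β * γ) y = (y⁻¹ * β y) * (y⁻¹ * γ y) := by
      have h1 : β (y⁻¹ * γ y) = y⁻¹ * γ y := hβ _ (hγ' y)
      rw [map_mul, map_inv] at h1
      rw [MulAut.mul_apply]
      calc y⁻¹ * β (γ y) = y⁻¹ * (β y * ((β y)⁻¹ * β (γ y))) := by group
        _ = y⁻¹ * (β y * (y⁻¹ * γ y)) := by rw [h1]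
        _ = _ := by group
    rw [e]
    exact B.mul_mem (hβ' y) (hγ' y)
  inv_mem' := by
    rintro β ⟨hβ, hβ'⟩
    refine ⟨fun b hb => ?_, fun y => ?_⟩
    · conv_lhs => rw [← hβ b hb]
      exact MulAut.inv_apply_self G β b
    · have h1 := hβ' (β⁻¹ y)
      rw [MulAut.apply_inv_self] at h1
      have e : y⁻¹ * β⁻¹ y = ((β⁻¹ y)⁻¹ * y)⁻¹ := by group
      rw [e]
      exact B.inv_mem h1

theorem isPGroup_chainStab {G : Type*} [Group G] [Finite G] {p : ℕ} {B : Subgroup G}
    (hB : IsPGroup p B) : IsPGroup p (chainStab B) := by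
  classical
  cases nonempty_fintype G
  intro β
  have hpow : ∀ (n : ℕ) (y : G), ((β : MulAut G) ^ n) y = y * (y⁻¹ * (β : MulAut G) y) ^ n := by
    intro n y
    induction n with
    | zero => simp
    | succ n ih =>
      rw [pow_succ', MulAut.mul_apply, ih, map_mul, map_pow, β.2.1 _ (β.2.2 y), pow_succ',
        ← mul_assoc, ← mul_assoc, mul_inv_cancel, one_mul]
  have hex : ∀ y : G, ∃ n, (y⁻¹ * (β : MulAut G) y) ^ p ^ n = 1 := fun y => by
    obtain ⟨n, hn⟩ := hB ⟨_, β.2.2 y⟩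
    exact ⟨n, congrArg Subtype.val hn⟩
  choose f hf using hex
  refine ⟨Finset.univ.sup f, Subtype.ext (MulEquiv.ext fun y => ?_)⟩
  obtain ⟨d, hd⟩ := Nat.exists_eq_add_of_le (Finset.le_sup (f := f) (Finset.mem_univ y))
  rw [SubmonoidClass.coe_pow, hpow, hd, pow_add, pow_mul, hf, one_pow, mul_one]
  rfl

variable {Ω : Type*} [Group Ω] {S : Subgroup Ω} [Finite S] {p : ℕ} [hp : Fact p.Prime]
  {F : FusionSystem S} {P : Subgroup Ω}

/-- An element of `N_S(P)` stabilizing an invariant series `1 ≤ B ≤ P` lies in `P`. -/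
theorem mem_of_stabilizes (hS : IsPGroup p S) (hP : F.IsEssential p P) {B : Subgroup P}
    (hB : ∀ α ∈ F.autGroup P, ∀ b ∈ B, α b ∈ B) {a : Ω} (haS : a ∈ S)
    (haN : a ∈ Subgroup.normalizer (P : Set Ω))
    (hfix : ∀ b ∈ B, a * (b : Ω) = (b : Ω) * a)
    (hmove : ∀ y : P, (y : Ω)⁻¹ * (a * y * a⁻¹) ∈ B.map P.subtype) : a ∈ P := by
  haveI := H87.essential_finite hP
  haveI : Finite (MulAut P) := Finite.of_injective _ DFunLike.coe_injective
  set t : MulAut P := H85.conjAut S P ⟨a, haS, haN⟩ with ht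
  have htA : t ∈ F.autGroup P :=
    H85.autInducedBy_le_autGroup F hP.1.1 (H85.conjAut_range S P ▸ ⟨_, rfl⟩)
  have htH : t ∈ chainStab B := by
    refine ⟨fun b hb => Subtype.ext ?_, fun y => ?_⟩
    · rw [ht, H85.conjAut_apply]
      show a * (b : Ω) * a⁻¹ = b
      rw [hfix b hb, mul_inv_cancel_right]
    · refine (Subgroup.mem_map_iff_mem P.subtype_injective).1 ?_
      have h1 := hmove y
      rw [ht]
      simpa using h1
  have hI : t ∈ Inn P := H87.essential_mem_inn hP (chainStab B)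
    ((isPGroup_chainStab ((H87.essential_isPGroup hS hP).to_subgroup B)).to_le inf_le_left)
    (fun α hα β hβ _ => ⟨fun b hb => by
        rw [MulAut.mul_apply, MulAut.mul_apply, hβ.1 _ (hB α⁻¹ ((F.autGroup P).inv_mem hα) b hb),
          MulAut.apply_inv_self],
      fun y => by
        have h1 := hB α hα _ (hβ.2 (α⁻¹ y))
        rw [map_mul, map_inv, MulAut.apply_inv_self] at h1
        rw [MulAut.mul_apply, MulAut.mul_apply]
        exact h1⟩) htH htA
  exact H85.mem_of_induces_inner hP.1 haS hI fun y => by rw [ht, H85.conjAut_apply]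

/-- An automorphism of the centre in the system extends to `S`. -/
theorem exists_top_of_center (hS : IsPGroup p S) (hF : F.IsSaturated p) (hPS : P ≤ S)
    (hZP : zc S ≤ P) {α : MulAut P} (hα : α ∈ F.autGroup P)
    (hstab : ∀ z : P, (z : Ω) ∈ zc S → ((α z : P) : Ω) ∈ zc S) :
    ∃ β ∈ F.autGroup S, ∀ (z : P) (hz : (z : Ω) ∈ S), (z : Ω) ∈ zc S →
      ((β ⟨z, hz⟩ : S) : Ω) = ((α z : P) : Ω) := by
  have hZS : zc S ≤ S := H75.SmallIndex.zc_le S
  haveI : Finite ↥(zc S) := H85.finite_of_le hZS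
  have hN : normalizerIn S (zc S) = S := by
    refine inf_eq_left.2 fun g hg => H85.mem_normalizer_of_conj fun z hz => ?_
    rw [(mem_zc.1 hz).2 g hg, mul_inv_cancel_right]
    exact hz
  have hZn : F.IsFullyNormalized (zc S) :=
    ⟨hZS, fun R _ => by rw [hN]; exact Subgroup.card_le_of_le (H85.normalizerIn_le R)⟩
  have hφ := H85.restrict ((H85.mem_autGroup hPS).1 hα) hZP
  have hr : ((P.subtype.comp α.toMonoidHom).comp (Subgroup.inclusion hZP)).range = zc S := by
    refine Subgroup.eq_of_le_of_card_ge ?_ (le_of_eq (Nat.card_congr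
      (MonoidHom.ofInjective (F.injective_of_mem hφ)).toEquiv))
    rintro _ ⟨z, rfl⟩
    exact hstab _ z.2
  set e := H85.isoOf _ hφ hr with he
  obtain ⟨ψ, hψ, hψe⟩ :=
    H85.receptive_extend (H85.receptive_of_fullyNormalized hS hF hZn) (H85.isFIso_isoOf _ hφ hr)
  have hle : S ≤ extender S (zc S) ((zc S).subtype.comp e.toMonoidHom) := by
    refine le_trans ?_ (H85.centralizerIn_le_extender _ _)
    exact fun g hg => H85.mem_centralizerIn.2 ⟨hg, fun z hz => ((mem_zc.1 hz).2 g hg).symm⟩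
  have hψS := H85.restrict hψ hle
  have hr' : (ψ.comp (Subgroup.inclusion hle)).range = S := H85.conj_top ⟨_, hψS, rfl⟩
  refine ⟨H85.isoOf _ hψS hr', (H85.mem_autGroup le_rfl).2 (H85.isFIso_isoOf _ hψS hr'),
    fun z hz hzZ => ?_⟩
  rw [H85.isoOf_apply]
  refine (hψe z hzZ _).trans ?_
  rw [H85.isoOf_apply]
  rfl

end H75.AbelianIndex
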