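import Cfsg.Agent.H75.AbelianIndex.Series

/-!
The invariant complement in the centre attached to an abelian essential subgroup.
-/

set_option autoImplicit false
set_option linter.style.haveILetI false

open Cfsg Cfsg.FusionSystem H75.SmallIndex
open scoped commutatorElement

namespace H75.AbelianIndex

variable {Ω : Type*} [Group Ω] {S A : Subgroup Ω} [Finite S] {p : ℕ} [hp : Fact p.Prime]
  {F : FusionSystem S} {P : Subgroup Ω} {x : Ω}

theorem Shape.exists_cos (h : Data p S A) (hsh : Shape P S A x p) (hc : IsMulCommutative ↥P)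
    (y : P) : ∃ (n : ℤ) (z : P), (z : Ω) ∈ zc S ∧ y = (⟨x, hsh.mem⟩ : P) ^ n * z := by
  obtain ⟨n, a, ha, hy⟩ := h.exists_zpow_mul hsh.memS hsh.notMem (hsh.le y.2)
  have haP : a ∈ P := (P.mul_mem_cancel_left (P.zpow_mem hsh.mem n)).1 (hy ▸ y.2)
  exact ⟨n, ⟨a, haP⟩, (hsh.abelian hc).le ⟨haP, ha⟩, Subtype.ext hy⟩

theorem Shape.index_center (h : Data p S A) (hsh : Shape P S A x p) (hc : IsMulCommutative ↥P) :
    ((zc S).subgroupOf P).index = p := by
  have h1 := h.relIndex_inter hsh.le fun e => hsh.notMem (e hsh.mem)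
  rw [hsh.abelian hc] at h1
  exact h1

/-- A central element of a nonabelian such subgroup is central in `S`. -/
theorem Shape.center_mem (h : Data p S A) (hsh : Shape P S A x p) (hnc : ¬ IsMulCommutative ↥P)
    {w : P} (hw : ∀ u : P, w * u = u * w) : (w : Ω) ∈ zc S := by
  have hwA : (w : Ω) ∈ A := by
    by_contra hwA
    have hB : ∀ u ∈ P ⊓ A, u ∈ zc S := fun u hu =>
      h.mem_zc_of_commute (hsh.le w.2) hwA hu.2 (congrArg Subtype.val (hw ⟨u, hu.1⟩))
    refine hnc (hsh.eq.symm ▸ ?_)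
    refine H11.isMulCommutative_sup (H11.isMulCommutative_of_le h.comm inf_le_right)
      (H11.isMulCommutative_of_commute fun u hu v hv => ?_)
      fun u hu v hv => (((mem_zc.1 (hB u hu)).2 v
        (hsh.le (Subgroup.zpowers_le.2 hsh.mem hv)))).symm
    obtain ⟨i, rfl⟩ := Subgroup.mem_zpowers_iff.1 hu
    obtain ⟨j, rfl⟩ := Subgroup.mem_zpowers_iff.1 hv
    rw [← zpow_add, ← zpow_add, add_comm]
  exact h.mem_zc_of_commute hsh.memS hsh.notMem hwA
    (congrArg Subtype.val (hw ⟨x, hsh.mem⟩)).symm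

theorem Shape.aut_zc (h : Data p S A) (hsh : Shape P S A x p) (hnc : ¬ IsMulCommutative ↥P)
    (α : MulAut P) {z : P} (hz : (z : Ω) ∈ zc S) : ((α z : P) : Ω) ∈ zc S := by
  refine hsh.center_mem h hnc fun u => ?_
  obtain ⟨w, rfl⟩ := α.surjective u
  rw [← map_mul, ← map_mul]
  exact congrArg α (Subtype.ext ((mem_zc.1 hz).2 w (hsh.le w.2)).symm)

/-- The data attached to an abelian essential subgroup. -/
def CenterSplit (F : FusionSystem S) (P Y : Subgroup Ω) : Prop :=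
  Y ≤ zc S ∧ (∀ α ∈ F.autGroup P, ∀ y : P, (y : Ω) ∈ Y → ((α y : P) : Ω) ∈ Y) ∧
    (∀ z ∈ zc S, ∃ y ∈ Y, ∃ ρ ∈ ⁅S, S⁆ ⊓ zc S, z = y * ρ) ∧
    ∃ β ∈ F.autGroup S, (∀ u : S, (u : Ω) ∈ Y → β u = u) ∧
      ∀ u : S, (u : Ω) ∈ ⁅S, S⁆ ⊓ zc S → β u = u⁻¹

theorem exists_centerSplit (h : Data p S A) (hF : F.IsSaturated p) (hP : F.IsEssential p P)
    (hsh : Shape P S A x p) (hc : IsMulCommutative ↥P) : ∃ Y, CenterSplit F P Y := by
  classical
  have hS := h.pgroup
  have hPS := hsh.le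
  haveI : Finite P := H85.finite_of_le hPS
  haveI : Finite (MulAut P) := Finite.of_injective _ DFunLike.coe_injective
  have hcomm : ∀ u v : P, u * v = v * u := hc.is_comm.comm
  set R := ⁅S, S⁆ ⊓ zc S with hR
  have hRcard : Nat.card R = p := card_comm_center h hF hP hsh
  haveI : Finite R := H85.finite_of_le (inf_le_right.trans (H75.SmallIndex.zc_le S))
  obtain ⟨r0, hr0, hr01⟩ : ∃ r ∈ R, r ≠ 1 := by
    by_contra hne
    push Not at hne
    rw [(Subgroup.eq_bot_iff_forall R).2 hne, Subgroup.card_bot] at hRcard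
    exact hp.out.one_lt.ne hRcard
  have hgen : ∀ ρ ∈ R, ∃ j : ℕ, ρ = r0 ^ j := by
    intro ρ hρ
    obtain ⟨j, hj⟩ := (mem_powers_of_prime_card (G := R) (g := ⟨r0, hr0⟩) (g' := ⟨ρ, hρ⟩) hRcard
      fun e => hr01 (congrArg Subtype.val e))
    exact ⟨j, (congrArg Subtype.val hj).symm⟩
  have hr0P : r0 ∈ P := hsh.zle hr0.2
  set c : P := ⟨r0, hr0P⟩ with hc0
  have hcp : c ^ p = 1 := Subtype.ext (by
    have := pow_card_eq_one' (G := R) (x := ⟨r0, hr0⟩)
    rw [hRcard] at this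
    exact (congrArg Subtype.val this :))
  have hcne : c ≠ 1 := fun e => hr01 (congrArg Subtype.val e)
  set ZE : Subgroup P := (zc S).subgroupOf P with hZE
  have hiZE : ZE.index = p := hsh.index_center h hc
  haveI : ZE.Normal := ⟨fun n hn g => by rw [hcomm g n, mul_inv_cancel_right]; exact hn⟩
  obtain ⟨a, haN, -, hafix, hax⟩ := exists_transvection h hsh hc hr0
  set t := H85.conjAut S P ⟨a, haN⟩ with ht
  set x' : P := ⟨x, hsh.mem⟩ with hx'
  have htx : t x' = x' * c := Subtype.ext hax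
  have htA : t ∈ F.autGroup P :=
    H85.autInducedBy_le_autGroup F hPS (H85.conjAut_range S P ▸ ⟨_, rfl⟩)
  have hind : autInducedBy S P ≤ Subgroup.zpowers t := by
    rw [← H85.conjAut_range]
    rintro _ ⟨⟨n, hn⟩, rfl⟩
    obtain ⟨i, b, hb, rfl⟩ := h.exists_zpow_mul hsh.memS hsh.notMem hn.1
    have hbN : b ∈ normalizerIn S P := ⟨h.le hb, (Subgroup.mul_mem_cancel_left _
      (Subgroup.le_normalizer (P.zpow_mem hsh.mem i))).1 hn.2⟩
    have hbR : ⁅x, b⁆ ∈ R := ⟨Subgroup.commutator_mem_commutator hsh.memS (h.le hb),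
      (hsh.abelian hc).le ((normalizes_iff h hPS hsh.mem hsh.notMem hsh.eq ⟨b, hb⟩).1 hbN)⟩
    obtain ⟨j, hj⟩ := hgen _ (R.inv_mem hbR)
    refine Subgroup.mem_zpowers_iff.2 ⟨(j : ℤ), (MulEquiv.ext fun y => ?_)⟩
    rw [zpow_natCast]
    obtain ⟨m, z, hz, rfl⟩ := hsh.exists_cos h hc y
    have hnS : x ^ i * b ∈ S := hn.1
    have e1 : (t ^ j) z = H85.conjAut S P ⟨x ^ i * b, hn⟩ z := by
      rw [pow_fix (hafix z hz) j]
      refine Subtype.ext ?_
      rw [H85.conjAut_apply]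
      show (z : Ω) = x ^ i * b * z * (x ^ i * b)⁻¹
      rw [(mem_zc.1 hz).2 _ hnS, mul_inv_cancel_right]
    have e2 : (t ^ j) x' = H85.conjAut S P ⟨x ^ i * b, hn⟩ x' := by
      rw [pow_apply_of_fix htx (hafix c hr0.2) j]
      refine Subtype.ext ?_
      rw [H85.conjAut_apply]
      show x * r0 ^ j = x ^ i * b * x * (x ^ i * b)⁻¹
      have hrz : r0 ^ j ∈ zc S := (zc S).pow_mem hr0.2 j
      have e3 : b * x * b⁻¹ = x * r0 ^ j := by
        have : b * x * b⁻¹ = ⁅x, b⁆⁻¹ * x := by rw [commutatorElement_def]; group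
        rw [this, hj, (mem_zc.1 hrz).2 x hsh.memS]
      calc x * r0 ^ j = x ^ i * x * (x ^ i)⁻¹ * r0 ^ j := by group
        _ = x ^ i * x * ((x ^ i)⁻¹ * r0 ^ j) := by group
        _ = x ^ i * x * (r0 ^ j * (x ^ i)⁻¹) := by
          rw [(mem_zc.1 hrz).2 _ (S.inv_mem (S.zpow_mem hsh.memS i))]
        _ = x ^ i * (b * x * b⁻¹) * (x ^ i)⁻¹ := by rw [e3]; group
        _ = _ := by group
    rw [map_mul, map_mul, map_zpow, map_zpow, e1, e2]
  have htr : TrData p (F.autGroup P) t ZE c := by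
    refine ⟨hcomm, htA, fun z hz => hafix z hz, ?_, hr0.2, hcp, hcne, hiZE, ?_⟩
    · intro y hy
      obtain ⟨n, z, hz, rfl⟩ := hsh.exists_cos h hc y
      have hty := transvection_apply hsh.mem hafix htx hr0.2 hc hz rfl (n := n)
      obtain ⟨j, hj⟩ := hgen _ (R.zpow_mem hr0 n)
      have hcj : c ^ n = c ^ j := Subtype.ext (by simpa [hc0] using hj)
      refine ⟨j, by rw [hty, hcj], fun h1 => hy ?_⟩
      have hord : orderOf c = p := orderOf_eq_prime hcp hcne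
      obtain ⟨k, hk⟩ := (hord ▸ orderOf_dvd_iff_zpow_eq_one.2 (hcj.trans h1) : (p : ℤ) ∣ n)
      refine ZE.mul_mem ?_ hz
      rw [hk, zpow_mul, zpow_natCast]
      refine ZE.zpow_mem ?_ k
      have := ZE.pow_index_mem x'
      rwa [hiZE] at this
    · intro L hL hLp htL
      have h1 := ((H85.isFullyAutomized_iff hS).1
        (H85.fullyAutomized_of_fullyNormalized hS hF hP.2.1)).2 L hL hLp
        (hind.trans (Subgroup.zpowers_le.2 htL))
      exact h1.le.trans hind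
  obtain ⟨g, hg, hgc⟩ : ∃ g ∈ F.autGroup P, g c ∉ ZE := by
    by_contra hne
    push Not at hne
    have hp' : IsPGroup p (Subgroup.zpowers t) :=
      (H85.autInducedBy_isPGroup hS P).to_le
        (Subgroup.zpowers_le.2 (H85.conjAut_range S P ▸ ⟨_, rfl⟩))
    have hn : t ∈ Inn P := H87.essential_mem_inn hP (Subgroup.zpowers t)
      (hp'.to_le inf_le_left) (fun a ha b hb _ => by
        obtain ⟨i, rfl⟩ := Subgroup.mem_zpowers_iff.1 hb
        rw [← conj_zpow]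
        exact zpow_mem (htr.conj_mem ha (hne a ha)) i) (Subgroup.mem_zpowers t) htA
    rw [H87.inn_eq_one_of_comm hc hn, MulAut.one_apply] at htx
    exact hcne (mul_eq_left.1 htx.symm)
  set W : Subgroup P := ZE ⊓ ZE.map g.toMonoidHom with hW
  obtain ⟨m, hm, hmfix, hmc, -⟩ := htr.exists_invert hg hgc
  have hmZ : ∀ z : P, (z : Ω) ∈ zc S → ((m z : P) : Ω) ∈ zc S := by
    intro z hz
    obtain ⟨y, hy, i, hi⟩ := htr.split_center hg hgc (z := z) hz
    rw [hi, map_mul, map_pow, hmfix y hy, hmc]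
    exact ZE.mul_mem hy.1 (ZE.pow_mem (ZE.inv_mem (show c ∈ ZE from hr0.2)) i)
  obtain ⟨β, hβ, hβm⟩ := exists_top_of_center hS hF hPS hsh.zle hm hmZ
  refine ⟨W.map P.subtype, ?_, ?_, ?_, β, hβ, ?_, ?_⟩
  · rintro _ ⟨y, hy, rfl⟩
    exact hy.1
  · rintro α hα u ⟨y, hy, hyu⟩
    exact ⟨α u, htr.invariant hg hgc hα ((Subtype.ext hyu : y = u) ▸ hy), rfl⟩
  · intro z hz
    obtain ⟨y, hy, i, hi⟩ := htr.split_center hg hgc (z := ⟨z, hsh.zle hz⟩) hz
    exact ⟨(y : Ω), ⟨y, hy, rfl⟩, _, R.pow_mem hr0 i, congrArg Subtype.val hi⟩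
  · rintro u ⟨y, hy, hyu⟩
    have h1 := hβm y (hPS y.2) hy.1
    rw [hmfix y hy, show (⟨(y : Ω), hPS y.2⟩ : S) = u from Subtype.ext hyu] at h1
    exact Subtype.ext (h1.trans hyu)
  · intro u hu
    obtain ⟨j, hj⟩ := hgen _ hu
    have hu' : u = (⟨r0, hPS hr0P⟩ : S) ^ j := Subtype.ext (by
      rw [SubmonoidClass.coe_pow]; exact hj)
    have h1 : β ⟨r0, hPS hr0P⟩ = (⟨r0, hPS hr0P⟩ : S)⁻¹ := Subtype.ext (by
      rw [hβm c (hPS hr0P) hr0.2, hmc]; rfl)
    rw [hu', map_pow, h1, inv_pow]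

end H75.AbelianIndex
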