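import Cfsg.Agent.H75.SmallIndex.Basics

/-!
Finite `p`-groups with a unique abelian subgroup of index `p`.
-/

set_option autoImplicit false
set_option linter.style.haveILetI false

open H75.SmallIndex
open scoped commutatorElement

namespace H75.AbelianIndex

variable {Ω : Type*} [Group Ω] {S A : Subgroup Ω} {p : ℕ} [hp : Fact p.Prime]

/-- `A` is an abelian subgroup of index `p` and the derived subgroup has order above `p`. -/
structure Data (p : ℕ) (S A : Subgroup Ω) : Prop where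
  pgroup : IsPGroup p S
  le : A ≤ S
  comm : IsMulCommutative ↥A
  idx : A.relIndex S = p
  nonab : ¬ IsMulCommutative ↥S
  big : p < Nat.card ↥⁅S, S⁆

omit hp in
theorem Data.commute (h : Data p S A) {a b : Ω} (ha : a ∈ A) (hb : b ∈ A) : Commute a b :=
  H11.comm_of_mulCommutative h.comm ha hb

theorem Data.exists_zpow_mul [Finite S] (h : Data p S A) {s : Ω} (hs : s ∈ S) (hsA : s ∉ A)
    {g : Ω} (hg : g ∈ S) : ∃ n : ℤ, ∃ a ∈ A, g = s ^ n * a := by
  have hnorm : (A.subgroupOf S).Normal := by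
    have hi : (A.subgroupOf S).index = p := h.idx
    refine Subgroup.normal_of_index_eq_minFac_card ?_
    obtain ⟨k, hk⟩ := IsPGroup.iff_card.1 h.pgroup
    have hk0 : k ≠ 0 := fun e => by
      have := Subgroup.index_dvd_card (A.subgroupOf S)
      rw [hi, hk, e, pow_zero] at this
      exact hp.out.ne_one (Nat.dvd_one.1 this)
    rw [hi, hk, Nat.pow_minFac hk0, hp.out.minFac_eq]
  have hcard : Nat.card (↥S ⧸ A.subgroupOf S) = p := by rw [← Subgroup.index_eq_card]; exact h.idx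
  have hm : (QuotientGroup.mk (⟨s, hs⟩ : S) : ↥S ⧸ A.subgroupOf S) ≠ 1 := fun hh =>
    hsA (show (⟨s, hs⟩ : S) ∈ A.subgroupOf S from (QuotientGroup.eq_one_iff _).1 hh)
  obtain ⟨n, hn⟩ := Subgroup.mem_zpowers_iff.1 (mem_zpowers_of_prime_card hcard hm
    (g' := (QuotientGroup.mk (⟨g, hg⟩ : S) : ↥S ⧸ A.subgroupOf S)))
  rw [← QuotientGroup.mk_zpow, QuotientGroup.eq] at hn
  exact ⟨n, _, hn, (mul_inv_cancel_left (s ^ n) g).symm⟩

theorem Data.normalizes [Finite S] (h : Data p S A) : S ≤ Subgroup.normalizer (A : Set Ω) := by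
  haveI : Finite A := H85.finite_of_le h.le
  have hnorm : (A.subgroupOf S).Normal := by
    have hi : (A.subgroupOf S).index = p := h.idx
    refine Subgroup.normal_of_index_eq_minFac_card ?_
    obtain ⟨k, hk⟩ := IsPGroup.iff_card.1 h.pgroup
    have hk0 : k ≠ 0 := fun e => by
      have := Subgroup.index_dvd_card (A.subgroupOf S)
      rw [hi, hk, e, pow_zero] at this
      exact hp.out.ne_one (Nat.dvd_one.1 this)
    rw [hi, hk, Nat.pow_minFac hk0, hp.out.minFac_eq]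
  intro g hg
  exact H85.mem_normalizer_of_conj fun a ha =>
    hnorm.conj_mem ⟨a, h.le ha⟩ ha ⟨g, hg⟩

theorem Data.comm_mem [Finite S] (h : Data p S A) {g a : Ω} (hg : g ∈ S) (ha : a ∈ A) :
    ⁅g, a⁆ ∈ A := by
  rw [commutatorElement_def]
  exact A.mul_mem (H85.conj_mem_of_mem_normalizer (h.normalizes hg) ha) (A.inv_mem ha)

theorem Data.zc_le [Finite S] (h : Data p S A) : zc S ≤ A := by
  intro z hz
  by_contra hzA
  refine h.nonab (H11.isMulCommutative_of_commute fun u hu v hv => ?_)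
  obtain ⟨i, a, ha, rfl⟩ := h.exists_zpow_mul (H75.SmallIndex.zc_le S hz) hzA hu
  obtain ⟨j, b, hb, rfl⟩ := h.exists_zpow_mul (H75.SmallIndex.zc_le S hz) hzA hv
  have hc : ∀ y ∈ S, Commute z y := fun y hy => ((mem_zc.1 hz).2 y hy).symm
  have e1 : Commute (z ^ i) (z ^ j * b) :=
    ((hc _ (S.mul_mem (S.zpow_mem (H75.SmallIndex.zc_le S hz) j) (h.le hb))).zpow_left i)
  have e2 : Commute a (z ^ j * b) :=
    (((hc a (h.le ha)).zpow_left j).symm).mul_right (h.commute ha hb)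
  exact (e1.mul_left e2).eq

/-- The commutator with an element outside `A`. -/
def phi [Finite S] (h : Data p S A) {s : Ω} (hs : s ∈ S) : ↥A →* ↥A where
  toFun a := ⟨⁅s, (a : Ω)⁆, h.comm_mem hs a.2⟩
  map_one' := Subtype.ext (by simp [commutatorElement_def])
  map_mul' a b := by
    refine Subtype.ext ?_
    show ⁅s, (a : Ω) * (b : Ω)⁆ = ⁅s, (a : Ω)⁆ * ⁅s, (b : Ω)⁆
    have h1 : Commute (a : Ω) ⁅s, (b : Ω)⁆ := h.commute a.2 (h.comm_mem hs b.2)
    have e : ⁅s, (a : Ω) * (b : Ω)⁆ = ⁅s, (a : Ω)⁆ * ((a : Ω) * ⁅s, (b : Ω)⁆ * (a : Ω)⁻¹) := by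
      rw [commutatorElement_def, commutatorElement_def, commutatorElement_def]; group
    rw [e, h1.eq, mul_inv_cancel_right]

@[simp] theorem phi_apply [Finite S] (h : Data p S A) {s : Ω} (hs : s ∈ S) (a : A) :
    ((phi h hs a : A) : Ω) = ⁅s, (a : Ω)⁆ := rfl

theorem Data.mem_zc_of_commute [Finite S] (h : Data p S A) {s a : Ω} (hs : s ∈ S) (hsA : s ∉ A)
    (ha : a ∈ A) (hc : Commute s a) : a ∈ zc S := by
  refine mem_zc.2 ⟨h.le ha, fun g hg => ?_⟩
  obtain ⟨n, b, hb, rfl⟩ := h.exists_zpow_mul hs hsA hg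
  exact ((hc.zpow_left n).mul_left (h.commute hb ha)).eq

theorem phi_ker [Finite S] (h : Data p S A) {s : Ω} (hs : s ∈ S) (hsA : s ∉ A) :
    (phi h hs).ker = (zc S).subgroupOf A := by
  ext a
  rw [MonoidHom.mem_ker, Subgroup.mem_subgroupOf]
  constructor
  · intro ha
    exact h.mem_zc_of_commute hs hsA a.2
      (commutatorElement_eq_one_iff_mul_comm.1 (congrArg Subtype.val ha))
  · intro ha
    exact Subtype.ext (commutatorElement_eq_one_iff_mul_comm.2 ((mem_zc.1 ha).2 s hs))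

theorem comm_zpow_mem_range [Finite S] (h : Data p S A) {s : Ω} (hs : s ∈ S) (n : ℤ) {a : Ω}
    (ha : a ∈ A) : ⁅s ^ n, a⁆ ∈ (phi h hs).range.map A.subtype := by
  induction n using Int.induction_on with
  | zero => simp [commutatorElement_def]
  | succ n ih =>
    have hy : s ^ (n : ℤ) * a * (s ^ (n : ℤ))⁻¹ ∈ A :=
      H85.conj_mem_of_mem_normalizer (h.normalizes (S.zpow_mem hs _)) ha
    have e : ⁅s ^ ((n : ℤ) + 1), a⁆ =
        ⁅s, s ^ (n : ℤ) * a * (s ^ (n : ℤ))⁻¹⁆ * ⁅s ^ (n : ℤ), a⁆ := by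
      rw [add_comm, zpow_add, zpow_one, commutatorElement_def, commutatorElement_def,
        commutatorElement_def]
      group
    rw [e]
    exact mul_mem ⟨phi h hs ⟨_, hy⟩, ⟨_, rfl⟩, rfl⟩ ih
  | pred n ih =>
    have hy : s ^ (-(n : ℤ) - 1) * a * (s ^ (-(n : ℤ) - 1))⁻¹ ∈ A :=
      H85.conj_mem_of_mem_normalizer (h.normalizes (S.zpow_mem hs _)) ha
    have e : ⁅s ^ (-(n : ℤ) - 1), a⁆ =
        ⁅s, s ^ (-(n : ℤ) - 1) * a * (s ^ (-(n : ℤ) - 1))⁻¹⁆⁻¹ * ⁅s ^ (-(n : ℤ)), a⁆ := by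
      rw [show s ^ (-(n : ℤ)) = s * s ^ (-(n : ℤ) - 1) by
          rw [← zpow_one_add, show 1 + (-(n : ℤ) - 1) = -(n : ℤ) by ring],
        commutatorElement_def, commutatorElement_def, commutatorElement_def]
      group
    rw [e]
    exact mul_mem (inv_mem ⟨phi h hs ⟨_, hy⟩, ⟨_, rfl⟩, rfl⟩) ih

theorem phi_range [Finite S] (h : Data p S A) {s : Ω} (hs : s ∈ S) (hsA : s ∉ A) :
    (phi h hs).range.map A.subtype = ⁅S, S⁆ := by
  refine le_antisymm ?_ (Subgroup.commutator_le.2 ?_)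
  · rintro _ ⟨_, ⟨a, rfl⟩, rfl⟩
    exact Subgroup.commutator_mem_commutator hs (h.le a.2)
  intro u hu v hv
  obtain ⟨i, a, ha, rfl⟩ := h.exists_zpow_mul hs hsA hu
  obtain ⟨j, b, hb, rfl⟩ := h.exists_zpow_mul hs hsA hv
  set x := s ^ i
  set y := s ^ j
  have hxy : Commute x y := (Commute.refl s).zpow_zpow i j
  have hxS : x ∈ S := S.zpow_mem hs i
  have hyS : y ∈ S := S.zpow_mem hs j
  have hX : x * a * x⁻¹ ∈ A := H85.conj_mem_of_mem_normalizer (h.normalizes hxS) ha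
  have hY : y * b * y⁻¹ ∈ A := H85.conj_mem_of_mem_normalizer (h.normalizes hyS) hb
  set X := x * a * x⁻¹
  set Y := y * b * y⁻¹
  have hu1 : ⁅x, Y⁆ ∈ A := h.comm_mem hxS hY
  have hu2 : ⁅y, X⁆ ∈ A := h.comm_mem hyS hX
  have key : ⁅x * a, y * b⁆ = ⁅x, Y⁆ * ⁅y, X⁆⁻¹ := by
    have e1 : x * a = X * x := by simp [X]
    have e2 : y * b = Y * y := by simp [Y]
    have e3 : ⁅X * x, Y * y⁆ = X * ⁅x, Y⁆ * Y * (x * y * x⁻¹ * y⁻¹) * ⁅y, X⁻¹⁆ * X⁻¹ * Y⁻¹ := by
      simp only [commutatorElement_def, mul_inv_rev]; group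
    have e4 : x * y * x⁻¹ * y⁻¹ = 1 := by rw [hxy.eq]; group
    have e5 : ⁅y, X⁻¹⁆ = ⁅y, X⁆⁻¹ := by
      exact congrArg Subtype.val (map_inv (phi h hyS) ⟨X, hX⟩)
    rw [e1, e2, e3, e4, mul_one, e5, (h.commute hX hu1).eq]
    have c1 : Commute X Y := h.commute hX hY
    have c2 : Commute (X * Y) ⁅y, X⁆⁻¹ := h.commute (A.mul_mem hX hY) (A.inv_mem hu2)
    calc ⁅x, Y⁆ * X * Y * ⁅y, X⁆⁻¹ * X⁻¹ * Y⁻¹ = ⁅x, Y⁆ * ((X * Y) * ⁅y, X⁆⁻¹) * (Y * X)⁻¹ := by
          group
      _ = ⁅x, Y⁆ * (⁅y, X⁆⁻¹ * (X * Y)) * (X * Y)⁻¹ := by rw [c2.eq, c1.eq]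
      _ = ⁅x, Y⁆ * ⁅y, X⁆⁻¹ := by group
  rw [key]
  exact mul_mem (comm_zpow_mem_range h hs i hY) (inv_mem (comm_zpow_mem_range h hs j hX))

theorem Data.comm_le [Finite S] (h : Data p S A) : ⁅S, S⁆ ≤ A := by
  obtain ⟨s, hs, hsA⟩ : ∃ s ∈ S, s ∉ A := by
    by_contra hne
    push Not at hne
    exact hp.out.one_lt.ne (h.idx ▸ (relIndex_eq_one_iff.2 hne).symm)
  rw [← phi_range h hs hsA]
  exact Subgroup.map_subtype_le _

theorem Data.card_eq [Finite S] (h : Data p S A) :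
    Nat.card ↥A = Nat.card ↥(zc S) * Nat.card ↥⁅S, S⁆ := by
  obtain ⟨s, hs, hsA⟩ : ∃ s ∈ S, s ∉ A := by
    by_contra hne
    push Not at hne
    exact hp.out.one_lt.ne (h.idx ▸ (relIndex_eq_one_iff.2 hne).symm)
  rw [← phi_range h hs hsA, Subgroup.card_map_of_injective A.subtype_injective,
    ← Subgroup.index_ker, ← Nat.card_congr (Subgroup.subgroupOfEquivOfLe h.zc_le).toEquiv,
    ← phi_ker h hs hsA, Subgroup.card_mul_index]

theorem data_of_unique [Finite S] (hS : IsPGroup p S) (hna : ¬ IsMulCommutative ↥S)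
    (hA : A ≤ S ∧ IsMulCommutative ↥A ∧ (A.subgroupOf S).index = p)
    (huniq : ∀ B : Subgroup Ω, B ≤ S → IsMulCommutative ↥B → (B.subgroupOf S).index = p → B = A) :
    Data p S A := by
  by_contra hd
  obtain ⟨hle, hc, hi⟩ := hA
  have hsmall : Nat.card ↥⁅S, S⁆ ≤ p := le_of_not_gt fun hb => hd ⟨hS, hle, hc, hi, hna, hb⟩
  haveI : Finite A := H85.finite_of_le hle
  -- argue with a weakened structure
  obtain ⟨s, hs, hsA⟩ : ∃ s ∈ S, s ∉ A := by
    by_contra hne
    push Not at hne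
    exact hp.out.one_lt.ne (hi ▸ (relIndex_eq_one_iff.2 hne).symm)
  have hnorm : (A.subgroupOf S).Normal := by
    refine Subgroup.normal_of_index_eq_minFac_card ?_
    obtain ⟨k, hk⟩ := IsPGroup.iff_card.1 hS
    have hk0 : k ≠ 0 := fun e => by
      have := Subgroup.index_dvd_card (A.subgroupOf S)
      rw [hi, hk, e, pow_zero] at this
      exact hp.out.ne_one (Nat.dvd_one.1 this)
    rw [hi, hk, Nat.pow_minFac hk0, hp.out.minFac_eq]
  -- the commutator map with `s`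
  have hsA' : ∀ {a : Ω}, a ∈ A → ⁅s, a⁆ ∈ A := fun {a} ha => by
    rw [commutatorElement_def]
    exact A.mul_mem (hnorm.conj_mem ⟨a, hle ha⟩ ha ⟨s, hs⟩) (A.inv_mem ha)
  let f : ↥A →* ↥A :=
    { toFun := fun a => ⟨⁅s, (a : Ω)⁆, hsA' a.2⟩
      map_one' := Subtype.ext (by simp [commutatorElement_def])
      map_mul' := fun a b => by
        refine Subtype.ext ?_
        show ⁅s, (a : Ω) * (b : Ω)⁆ = ⁅s, (a : Ω)⁆ * ⁅s, (b : Ω)⁆
        have h1 : Commute (a : Ω) ⁅s, (b : Ω)⁆ := H11.comm_of_mulCommutative hc a.2 (hsA' b.2)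
        have e : ⁅s, (a : Ω) * (b : Ω)⁆ = ⁅s, (a : Ω)⁆ * ((a : Ω) * ⁅s, (b : Ω)⁆ * (a : Ω)⁻¹) := by
          rw [commutatorElement_def, commutatorElement_def, commutatorElement_def]; group
        rw [e, h1.eq, mul_inv_cancel_right] }
  set M := (f.ker.map A.subtype) ⊔ Subgroup.zpowers s with hM
  have hKS : f.ker.map A.subtype ≤ S := (Subgroup.map_subtype_le _).trans hle
  have hMS : M ≤ S := sup_le hKS (Subgroup.zpowers_le.2 hs)
  have hKs : ∀ z ∈ f.ker.map A.subtype, Commute z s := by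
    rintro _ ⟨z, hz, rfl⟩
    exact (commutatorElement_eq_one_iff_mul_comm.1 (congrArg Subtype.val hz) :
      Commute s (z : Ω)).symm
  have hMc : IsMulCommutative ↥M := by
    refine H11.isMulCommutative_sup (H11.isMulCommutative_of_le hc (Subgroup.map_subtype_le _))
      (H11.isMulCommutative_of_commute fun x hx y hy => ?_) fun x hx y hy => ?_
    · obtain ⟨i, rfl⟩ := Subgroup.mem_zpowers_iff.1 hx
      obtain ⟨j, rfl⟩ := Subgroup.mem_zpowers_iff.1 hy
      rw [← zpow_add, ← zpow_add, add_comm]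
    · obtain ⟨j, rfl⟩ := Subgroup.mem_zpowers_iff.1 hy
      exact ((hKs x hx).zpow_right j).eq
  -- its index
  have hker : Nat.card ↥f.ker * p ≥ Nat.card ↥A := by
    have h1 := f.ker.card_mul_index
    rw [Subgroup.index_ker] at h1
    have h2 : Nat.card ↥f.range ≤ Nat.card ↥⁅S, S⁆ := by
      haveI : Finite ↥⁅S, S⁆ := H85.finite_of_le (Subgroup.commutator_le_self S)
      rw [← Subgroup.card_map_of_injective (f := A.subtype) A.subtype_injective]
      refine Subgroup.card_le_of_le ?_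
      rintro _ ⟨_, ⟨a, rfl⟩, rfl⟩
      exact Subgroup.commutator_mem_commutator hs (hle a.2)
    rw [← h1]
    exact Nat.mul_le_mul_left _ (h2.trans hsmall)
  haveI : Finite M := H85.finite_of_le hMS
  have hlt : f.ker.map A.subtype < M := by
    refine lt_of_le_of_ne le_sup_left fun e => hsA ?_
    have h1 : s ∈ f.ker.map A.subtype := e.ge (Subgroup.mem_sup_right (Subgroup.mem_zpowers s))
    exact Subgroup.map_subtype_le _ h1
  have hMcard : Nat.card ↥A ≤ Nat.card ↥M := by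
    refine le_trans hker ?_
    have h1 := ((f.ker.map A.subtype).subgroupOf M).card_mul_index
    rw [Nat.card_congr (Subgroup.subgroupOfEquivOfLe hlt.le).toEquiv,
      Subgroup.card_map_of_injective A.subtype_injective] at h1
    rw [← h1]
    refine Nat.mul_le_mul_left _ ?_
    show p ≤ (f.ker.map A.subtype).relIndex M
    obtain ⟨k, hk⟩ : ∃ k, (f.ker.map A.subtype).relIndex M = p ^ k := by
      obtain ⟨k, hk⟩ := IsPGroup.iff_card.1 (hS.to_le hMS)
      have hdvd : (f.ker.map A.subtype).relIndex M ∣ p ^ k := hk ▸ Subgroup.index_dvd_card _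
      obtain ⟨i, -, hi⟩ := (Nat.dvd_prime_pow hp.out).1 hdvd
      exact ⟨i, hi⟩
    rw [hk]
    refine Nat.le_self_pow (fun e => hlt.not_ge ?_) p
    exact relIndex_eq_one_iff.1 (by rw [hk, e, pow_zero])
  have hiM : (M.subgroupOf S).index = p := by
    have h1 := (M.subgroupOf S).card_mul_index
    have h2 := (A.subgroupOf S).card_mul_index
    rw [Nat.card_congr (Subgroup.subgroupOfEquivOfLe hMS).toEquiv] at h1
    rw [Nat.card_congr (Subgroup.subgroupOfEquivOfLe hle).toEquiv, hi] at h2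
    obtain ⟨k, hk⟩ := IsPGroup.iff_card.1 hS
    obtain ⟨i, -, hi'⟩ := (Nat.dvd_prime_pow hp.out).1
      (hk ▸ Subgroup.index_dvd_card (M.subgroupOf S))
    rw [hi'] at h1 ⊢
    have hi0 : i ≠ 0 := fun e => hna (by
      have h3 : M.subgroupOf S = ⊤ := Subgroup.index_eq_one.1 (by rw [hi', e, pow_zero])
      exact le_antisymm hMS (Subgroup.subgroupOf_eq_top.1 h3) ▸ hMc)
    have hi1 : i ≤ 1 := by
      by_contra hlt2
      have h4 : p ^ 2 ≤ p ^ i := Nat.pow_le_pow_right hp.out.pos (by omega)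
      have h5 : Nat.card ↥A * p ^ 2 ≤ Nat.card ↥A * p := by
        rw [h2, ← h1]; exact Nat.mul_le_mul hMcard h4
      have := Nat.le_of_mul_le_mul_left h5 Nat.card_pos
      rw [sq] at this
      exact absurd (Nat.le_of_mul_le_mul_left (this.trans_eq (mul_one p).symm) hp.out.pos)
        (not_le.2 hp.out.one_lt)
    rw [show i = 1 by omega, pow_one]
  exact hsA ((huniq M hMS hMc hiM).le (Subgroup.mem_sup_right (Subgroup.mem_zpowers s)))

end H75.AbelianIndex
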