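import Cfsg.Agent.H75.AbelianIndex.AbelData

/-!
Core-free systems with a non-essential abelian subgroup of index `p`.
-/

set_option autoImplicit false
set_option linter.style.haveILetI false

open Cfsg Cfsg.FusionSystem H75.SmallIndex
open scoped commutatorElement

namespace H75.AbelianIndex

variable {Ω : Type*} [Group Ω] {S A : Subgroup Ω} [Finite S] {p : ℕ} [hp : Fact p.Prime]
  {F : FusionSystem S}

/-- `β` inverts `R` and is trivial on the centre modulo `R`. -/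
def InvertsR (S : Subgroup Ω) (β : MulAut S) : Prop :=
  (∀ u : S, (u : Ω) ∈ ⁅S, S⁆ ⊓ zc S → β u = u⁻¹) ∧
    ∀ z : S, (z : Ω) ∈ zc S → ((z⁻¹ * β z : S) : Ω) ∈ ⁅S, S⁆ ⊓ zc S

omit [Finite S] hp in
theorem map_mem_R (β : MulAut S) {u : S} (hu : (u : Ω) ∈ ⁅S, S⁆ ⊓ zc S) :
    ((β u : S) : Ω) ∈ ⁅S, S⁆ ⊓ zc S :=
  ⟨map_mem_comm β hu.1, map_mem_zc β hu.2⟩

theorem exists_abelian_essential (h : Data p S A) (hF : F.IsSaturated p) (hcore : F.core = ⊥)
    (hAe : ¬ F.IsEssential p A) :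
    ∃ P x, F.IsEssential p P ∧ Shape P S A x p ∧ IsMulCommutative ↥P := by
  have hS := h.pgroup
  have hS1 : S ≠ ⊥ := fun e => h.nonab (by
    subst e
    exact H11.isMulCommutative_of_commute fun u hu v hv => by
      rw [Subgroup.mem_bot.1 hu, Subgroup.mem_bot.1 hv])
  by_contra hne
  push Not at hne
  have hshape : ∀ E, F.IsEssential p E → ∃ x, Shape E S A x p ∧ ¬ IsMulCommutative ↥E := by
    intro E hE
    obtain ⟨x, hsh⟩ := exists_shape h hF hE (fun e => hAe (e ▸ hE))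
    exact ⟨x, hsh, hne E x hE hsh⟩
  haveI : Nontrivial S := (Subgroup.nontrivial_iff_ne_bot _).2 hS1
  have hz : zc S ≠ ⊥ := fun e => by
    obtain ⟨u, hu, hu1⟩ := (Subgroup.nontrivial_iff_exists_ne_one _).1 hS.center_nontrivial
    refine hu1 (Subtype.ext (Subgroup.mem_bot.1 (e ▸ ?_)))
    rw [← zc_subgroupOf, Subgroup.mem_subgroupOf] at hu
    exact hu
  refine false_of_invariant hS hF hcore (H75.SmallIndex.zc_le S) hz
    (fun β _ u hu => map_mem_zc β hu) fun E hE => ?_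
  obtain ⟨x, hsh, hnc⟩ := hshape E hE
  exact ⟨hsh.zle, fun α _ z hz => hsh.aut_zc h hnc α hz⟩

theorem center_eq (h : Data p S A) (hp2 : p ≠ 2) (hF : F.IsSaturated p) (hcore : F.core = ⊥)
    (hAe : ¬ F.IsEssential p A) :
    zc S ≤ ⁅S, S⁆ ∧ Nat.card ↥(⁅S, S⁆ ⊓ zc S) = p := by
  classical
  have hS := h.pgroup
  obtain ⟨P, x, hP, hsh, hc⟩ := exists_abelian_essential h hF hcore hAe
  have hRcard := card_comm_center h hF hP hsh
  set R := ⁅S, S⁆ ⊓ zc S with hR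
  haveI : Finite R := H85.finite_of_le (inf_le_right.trans (H75.SmallIndex.zc_le S))
  have hRp : ∀ u : S, (u : Ω) ∈ R → u ^ p = 1 := fun u hu => by
    have := pow_card_eq_one' (G := R) (x := ⟨u, hu⟩)
    rw [hRcard] at this
    exact Subtype.ext (congrArg Subtype.val this :)
  have hodd : ∀ u : S, (u : Ω) ∈ R → u⁻¹ = u → u = 1 := fun u hu hinv => by
    have h2 : u ^ 2 = 1 := by rw [sq]; exact inv_eq_iff_mul_eq_one.1 hinv
    have h3 := Nat.dvd_gcd (orderOf_dvd_of_pow_eq_one h2) (orderOf_dvd_of_pow_eq_one (hRp u hu))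
    rw [(Nat.coprime_primes Nat.prime_two hp.out).2 (Ne.symm hp2)] at h3
    exact orderOf_eq_one_iff.1 (Nat.dvd_one.1 h3)
  have hdec : ∀ {Y : Subgroup Ω}, (∀ z ∈ zc S, ∃ y ∈ Y, ∃ ρ ∈ R, z = y * ρ) → Y ≤ zc S →
      ∀ z : S, (z : Ω) ∈ zc S → ∃ y ρ : S, (y : Ω) ∈ Y ∧ (ρ : Ω) ∈ R ∧ z = y * ρ := by
    intro Y hY hYZ z hz
    obtain ⟨y, hy, ρ, hρ, hzy⟩ := hY z hz
    exact ⟨⟨y, H75.SmallIndex.zc_le S (hYZ hy)⟩, ⟨ρ, H75.SmallIndex.zc_le S hρ.2⟩, hy, hρ,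
      Subtype.ext hzy⟩
  have hmkInv : ∀ {Y : Subgroup Ω} {β : MulAut S}, (∀ z ∈ zc S, ∃ y ∈ Y, ∃ ρ ∈ R, z = y * ρ) →
      Y ≤ zc S → (∀ u : S, (u : Ω) ∈ Y → β u = u) → (∀ u : S, (u : Ω) ∈ R → β u = u⁻¹) →
      InvertsR S β := by
    intro Y β hY hYZ hfix hinv
    refine ⟨hinv, fun z hz => ?_⟩
    obtain ⟨y, ρ, hy, hρ, rfl⟩ := hdec hY hYZ z hz
    rw [map_mul, hfix y hy, hinv ρ hρ, mul_inv_rev, mul_assoc, inv_mul_cancel_left]
    exact R.mul_mem (R.inv_mem hρ) (R.inv_mem hρ)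
  obtain ⟨Y0, hY0Z, -, hY0dec, h0, hh0, hh0Y, hh0R⟩ := exists_centerSplit h hF hP hsh hc
  have hinvol : ∀ z : S, (z : Ω) ∈ zc S → h0 (h0 z) = z := by
    intro z hz
    obtain ⟨y, ρ, hy, hρ, rfl⟩ := hdec hY0dec hY0Z z hz
    rw [map_mul, hh0Y y hy, hh0R ρ hρ, map_mul, hh0Y y hy, map_inv, hh0R ρ hρ, inv_inv]
  have hI0 : InvertsR S h0 := hmkInv hY0dec hY0Z hh0Y hh0R
  -- all such automorphisms agree on the centre
  have hkey : ∀ β ∈ F.autGroup S, InvertsR S β → ∀ z : S, (z : Ω) ∈ zc S → β z = h0 z := by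
    rintro β hβ ⟨hβR, hβZ⟩ z hz
    have hk : h0 * β ∈ F.autGroup S := (F.autGroup S).mul_mem hh0 hβ
    set σ := z⁻¹ * (h0 * β) z with hσ
    have hσR : (σ : Ω) ∈ R := by
      have h1 : σ = z⁻¹ * h0 z * h0 (z⁻¹ * β z) := by
        rw [hσ, MulAut.mul_apply, map_mul, map_inv]; group
      rw [h1]
      exact R.mul_mem (hI0.2 z hz) (map_mem_R h0 (hβZ z hz))
    have hkσ : (h0 * β) σ = σ := by
      rw [MulAut.mul_apply, hβR σ hσR, map_inv, hh0R σ hσR, inv_inv]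
    have hkp : ((h0 * β) ^ p) z = z := by
      rw [pow_apply_of_fix (show (h0 * β) z = z * σ by rw [hσ, mul_inv_cancel_left]) hkσ p,
        hRp σ hσR, mul_one]
    have hfix : h0 (β z) = z := fix_of_pow hS hF hk hz hkp
    calc β z = h0 (h0 (β z)) := (hinvol _ (map_mem_zc β hz)).symm
      _ = h0 z := by rw [hfix]
  have hfix0 : ∀ z : S, (z : Ω) ∈ zc S → h0 z = z → (z : Ω) ∈ Y0 := by
    intro z hz hfix
    obtain ⟨y, ρ, hy, hρ, rfl⟩ := hdec hY0dec hY0Z z hz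
    rw [map_mul, hh0Y y hy, hh0R ρ hρ] at hfix
    rw [hodd ρ hρ (mul_left_cancel hfix), mul_one]
    exact hy
  -- `Y0` is invariant in `S`
  have hY0top : ∀ β ∈ F.autGroup S, ∀ u : S, (u : Ω) ∈ Y0 → ((β u : S) : Ω) ∈ Y0 := by
    intro β hβ u hu
    refine hfix0 _ (map_mem_zc β (hY0Z hu)) ?_
    have hI : InvertsR S (β * h0 * β⁻¹) := by
      refine ⟨fun z hz => ?_, fun z hz => ?_⟩
      · rw [MulAut.mul_apply, MulAut.mul_apply, hh0R _ (map_mem_R β⁻¹ hz), map_inv,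
          MulAut.apply_inv_self]
      · have h1 : z⁻¹ * (β * h0 * β⁻¹) z = β ((β⁻¹ z)⁻¹ * h0 (β⁻¹ z)) := by
          rw [MulAut.mul_apply, MulAut.mul_apply, map_mul, map_inv, MulAut.apply_inv_self]
        rw [h1]
        exact map_mem_R β (hI0.2 _ (map_mem_zc β⁻¹ hz))
    have h2 := hkey _ ((F.autGroup S).mul_mem ((F.autGroup S).mul_mem hβ hh0)
      ((F.autGroup S).inv_mem hβ)) hI (β u) (map_mem_zc β (hY0Z hu))
    rw [MulAut.mul_apply, MulAut.mul_apply, MulAut.inv_apply_self, hh0Y u hu] at h2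
    exact h2.symm
  have hY0 : Y0 = ⊥ := by
    by_contra hne
    refine false_of_invariant hS hF hcore (hY0Z.trans (H75.SmallIndex.zc_le S)) hne hY0top
      fun E hE => ?_
    obtain ⟨y, hshE⟩ := exists_shape h hF hE (fun e => hAe (e ▸ hE))
    refine ⟨hY0Z.trans hshE.zle, fun α hα u hu => ?_⟩
    have huS : (u : Ω) ∈ S := hshE.le u.2
    by_cases hcE : IsMulCommutative ↥E
    · obtain ⟨Y, hYZ, hYinv, hYdec, h1, hh1, hh1Y, hh1R⟩ := exists_centerSplit h hF hE hshE hcE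
      have hI1 := hmkInv hYdec hYZ hh1Y hh1R
      have hYY : ∀ z : S, (z : Ω) ∈ Y → (z : Ω) ∈ Y0 := fun z hz =>
        hfix0 z (hYZ hz) (by rw [← hkey h1 hh1 hI1 z (hYZ hz), hh1Y z hz])
      have huY : (u : Ω) ∈ Y := by
        obtain ⟨y, ρ, hy, hρ, hzy⟩ := hdec hYdec hYZ ⟨u, huS⟩ (hY0Z hu)
        have hρY : (ρ : Ω) ∈ Y0 := by
          have : ρ = y⁻¹ * ⟨u, huS⟩ := by rw [hzy, inv_mul_cancel_left]
          rw [this]
          exact Y0.mul_mem (Y0.inv_mem (hYY y hy)) hu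
        have hρ1 : ρ = 1 := hodd ρ hρ ((hh0R ρ hρ).symm.trans (hh0Y ρ hρY))
        rw [hρ1, mul_one] at hzy
        rw [show (u : Ω) = (y : Ω) from congrArg Subtype.val hzy]
        exact hy
      exact hYY ⟨_, hshE.le (α u).2⟩ (hYinv α hα u huY)
    · obtain ⟨β, hβ, hβα⟩ := exists_top_of_center hS hF hshE.le hshE.zle hα
        fun z hz => hshE.aut_zc h hcE α hz
      rw [← hβα u huS (hY0Z hu)]
      exact hY0top β hβ ⟨u, huS⟩ hu
  refine ⟨fun z hz => ?_, hRcard⟩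
  obtain ⟨y, hy, ρ, hρ, rfl⟩ := hY0dec z hz
  rw [hY0, Subgroup.mem_bot] at hy
  rw [hy, one_mul]
  exact hρ.1

theorem lower_ne_bot (h : Data p S A) (hp2 : p ≠ 2) (hF : F.IsSaturated p) (hcore : F.core = ⊥)
    (hAe : ¬ F.IsEssential p A) {n : ℕ} (hn : Nat.card S = p ^ n) (hn3 : 3 ≤ n) :
    Subgroup.lowerCentralSeries S (n - 2) ≠ ⊥ := by
  obtain ⟨P, x, hP, hsh, -⟩ := exists_abelian_essential h hF hcore hAe
  obtain ⟨hle, hR⟩ := center_eq h hp2 hF hcore hAe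
  have hz : Nat.card ↥(zc S) = p := by rwa [inf_eq_right.2 hle] at hR
  obtain ⟨m, rfl⟩ := Nat.exists_eq_add_of_le hn3
  have hrel : (zc S).relIndex S = p ^ (m + 2) := by
    refine Nat.eq_of_mul_eq_mul_left hp.out.pos ?_
    have h1 := ((zc S).subgroupOf S).card_mul_index
    rw [Nat.card_congr (Subgroup.subgroupOfEquivOfLe (H75.SmallIndex.zc_le S)).toEquiv, hz, hn]
      at h1
    rw [← pow_succ']
    exact h1.trans (by ring_nf)
  obtain ⟨a, ha⟩ := exists_iterate_notMem h hR hsh.memS hsh.notMem hrel (by omega)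
  intro hbot
  have h2 := mem_lower h hsh.memS (m + 1) a
  rw [show 3 + m - 2 = m + 1 by omega] at hbot
  rw [hbot, Subgroup.mem_bot] at h2
  have h3 : (phi h hsh.memS)^[m] a ∈ (phi h hsh.memS).ker := by
    rw [MonoidHom.mem_ker, ← Function.iterate_succ_apply' (phi h hsh.memS)]
    exact Subtype.ext h2
  rw [phi_ker h hsh.memS hsh.notMem, Subgroup.mem_subgroupOf] at h3
  rw [show m + 2 - 2 = m by omega] at ha
  exact ha h3

end H75.AbelianIndex
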