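import Cfsg.Agent.H75.AbelianIndex.Shape

/-!
Normalizers of essential subgroups and the transvection data in the abelian case.
-/

set_option autoImplicit false
set_option linter.style.haveILetI false

open Cfsg Cfsg.FusionSystem H75.SmallIndex
open scoped commutatorElement

namespace H75.AbelianIndex

variable {Ω : Type*} [Group Ω] {S A : Subgroup Ω} [Finite S] {p : ℕ} [hp : Fact p.Prime]
  {F : FusionSystem S} {P : Subgroup Ω} {x : Ω}

omit hp in
theorem Shape.memS (hsh : Shape P S A x p) : x ∈ S := hsh.le hsh.mem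

omit hp in
theorem Shape.ne_top (hsh : Shape P S A x p) (h : Data p S A) (hF : F.IsSaturated p)
    [Fact p.Prime] (hP : F.IsEssential p P) : P < S :=
  lt_of_le_of_ne hsh.le (H89.essential_ne_top h.pgroup hF hP)

theorem relIndex_normalizer_eq (h : Data p S A) (hF : F.IsSaturated p) (hP : F.IsEssential p P)
    (hsh : Shape P S A x p) :
    P.relIndex (normalizerIn S P) = (P ⊓ A).relIndex (normalizerIn S P ⊓ A) := by
  have hPS := hsh.le
  have hiB : (P ⊓ A).relIndex P = p := h.relIndex_inter hPS fun e => hsh.notMem (e hsh.mem)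
  have hNA : (normalizerIn S P ⊓ A).relIndex (normalizerIn S P) = p :=
    h.relIndex_inter (H85.normalizerIn_le P)
      fun e => hsh.notMem (e (H85.le_normalizerIn hPS hsh.mem))
  have h1 := Subgroup.relIndex_mul_relIndex (P ⊓ A) P (normalizerIn S P) inf_le_left
    (H85.le_normalizerIn hPS)
  have h2 := Subgroup.relIndex_mul_relIndex (P ⊓ A) (normalizerIn S P ⊓ A) (normalizerIn S P)
    (inf_le_inf_right A (H85.le_normalizerIn hPS)) inf_le_left
  rw [hiB] at h1
  rw [hNA, ← h1, mul_comm] at h2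
  exact (Nat.eq_of_mul_eq_mul_left hp.out.pos h2).symm

theorem normalizer_inter_eq (h : Data p S A) (hsh : Shape P S A x p) :
    normalizerIn S P ⊓ A =
      (((P ⊓ A).subgroupOf A).comap (phi h hsh.memS)).map A.subtype := by
  ext a
  constructor
  · rintro ⟨haN, haA⟩
    exact ⟨⟨a, haA⟩, (normalizes_iff h hsh.le hsh.mem hsh.notMem hsh.eq ⟨a, haA⟩).1 haN, rfl⟩
  · rintro ⟨b, hb, rfl⟩
    exact ⟨(normalizes_iff h hsh.le hsh.mem hsh.notMem hsh.eq b).2 hb, b.2⟩

theorem relIndex_normalizer_map (h : Data p S A) (hF : F.IsSaturated p) (hP : F.IsEssential p P)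
    (hsh : Shape P S A x p) :
    P.relIndex (normalizerIn S P) = ((P ⊓ A).subgroupOf A).relIndex
      (((P ⊓ A).subgroupOf A).comap (phi h hsh.memS)) := by
  rw [relIndex_normalizer_eq h hF hP hsh, normalizer_inter_eq h hsh]
  have e := Subgroup.relIndex_map_map_of_injective ((P ⊓ A).subgroupOf A)
    (((P ⊓ A).subgroupOf A).comap (phi h hsh.memS)) A.subtype_injective
  rwa [Subgroup.map_subgroupOf_eq_of_le (inf_le_right : P ⊓ A ≤ A)] at e

theorem relIndex_normalizer_abelian (h : Data p S A) (hF : F.IsSaturated p)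
    (hP : F.IsEssential p P) (hsh : Shape P S A x p) (hc : IsMulCommutative ↥P) :
    P.relIndex (normalizerIn S P) = Nat.card ↥(⁅S, S⁆ ⊓ zc S) := by
  rw [relIndex_normalizer_map h hF hP hsh, hsh.abelian hc]
  exact relIndex_ker2 h hsh.memS hsh.notMem

/-- The automorphism induced by an element of `A` with a given root. -/
theorem exists_transvection (h : Data p S A) (hsh : Shape P S A x p) (hc : IsMulCommutative ↥P)
    {r : Ω} (hr : r ∈ ⁅S, S⁆ ⊓ zc S) :
    ∃ (a : Ω) (hN : a ∈ normalizerIn S P), a ∈ A ∧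
      (∀ y : P, (y : Ω) ∈ zc S → H85.conjAut S P ⟨a, hN⟩ y = y) ∧
      ((H85.conjAut S P ⟨a, hN⟩ ⟨x, hsh.mem⟩ : P) : Ω) = x * r := by
  have hrinv : r⁻¹ ∈ (phi h hsh.memS).range.map A.subtype := by
    rw [phi_range h hsh.memS hsh.notMem]; exact inv_mem hr.1
  obtain ⟨_, ⟨a, rfl⟩, har⟩ := hrinv
  have har' : ⁅x, (a : Ω)⁆ = r⁻¹ := har
  have hN : (a : Ω) ∈ normalizerIn S P :=
    (normalizes_iff h hsh.le hsh.mem hsh.notMem hsh.eq a).2 (Subgroup.mem_subgroupOf.2 (by
      show ⁅x, (a : Ω)⁆ ∈ P ⊓ A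
      rw [har', hsh.abelian hc]
      exact inv_mem hr.2))
  refine ⟨a, hN, a.2, fun y hy => Subtype.ext ?_, ?_⟩
  · rw [H85.conjAut_apply]
    show (a : Ω) * y * (a : Ω)⁻¹ = y
    rw [(mem_zc.1 hy).2 a (h.le a.2), mul_inv_cancel_right]
  · rw [H85.conjAut_apply]
    show (a : Ω) * x * (a : Ω)⁻¹ = x * r
    have e : (a : Ω) * x * (a : Ω)⁻¹ = ⁅x, (a : Ω)⁆⁻¹ * x := by rw [commutatorElement_def]; group
    rw [e, har', inv_inv, ← (mem_zc.1 hr.2).2 x hsh.memS]

omit hp in
theorem transvection_apply (hx : x ∈ P) {t : MulAut P} {r : P}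
    (hfix : ∀ y : P, (y : Ω) ∈ zc S → t y = y) (htx : t ⟨x, hx⟩ = ⟨x, hx⟩ * r)
    (hrZ : (r : Ω) ∈ zc S) (hc : IsMulCommutative ↥P) {y : P} {n : ℤ} {z : P}
    (hz : (z : Ω) ∈ zc S) (hy : y = (⟨x, hx⟩ : P) ^ n * z) : t y = y * r ^ n := by
  have hcomm : ∀ u v : P, u * v = v * u := hc.is_comm.comm
  have h1 : t ((⟨x, hx⟩ : P) ^ n) = (⟨x, hx⟩ : P) ^ n * r ^ n := by
    rw [map_zpow, htx, (show Commute (⟨x, hx⟩ : P) r from hcomm _ _).mul_zpow]
  rw [hy, map_mul, h1, hfix z hz, mul_assoc, hcomm (r ^ n) z, ← mul_assoc]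

theorem card_comm_center (h : Data p S A) (hF : F.IsSaturated p) (hP : F.IsEssential p P)
    (hsh : Shape P S A x p) : Nat.card ↥(⁅S, S⁆ ⊓ zc S) = p := by
  by_cases hc : IsMulCommutative ↥P
  swap
  · exact (hsh.nonabelian hc).2
  have hS := h.pgroup
  haveI : Finite P := H85.finite_of_le hsh.le
  haveI : Finite (MulAut P) := Finite.of_injective _ DFunLike.coe_injective
  set R := ⁅S, S⁆ ⊓ zc S with hR
  have hRS : R ≤ S := inf_le_right.trans (H75.SmallIndex.zc_le S)
  haveI : Finite R := H85.finite_of_le hRS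
  haveI : Finite ↥(normalizerIn S P) := H85.finite_of_le (H85.normalizerIn_le P)
  have hne : Nat.card R ≠ 1 := by
    rw [← relIndex_normalizer_abelian h hF hP hsh hc]
    exact fun e => (H85.lt_normalizerIn hS (hsh.ne_top h hF hP)).not_ge (relIndex_eq_one_iff.1 e)
  by_contra hne'
  obtain ⟨k, hk⟩ := IsPGroup.iff_card.1 (hS.to_le hRS)
  have hbig : p < Nat.card R := by
    rcases k with _ | _ | k
    · exact absurd (by rw [hk, pow_zero]) hne
    · exact absurd (by rw [hk, pow_one]) hne'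
    · rw [hk]; exact lt_of_lt_of_le (lt_self_pow₀ hp.out.one_lt (by norm_num : 1 < 2))
        (Nat.pow_le_pow_right hp.out.pos (by omega))
  set ZE : Subgroup P := (zc S).subgroupOf P with hZE
  set RE : Subgroup P := R.subgroupOf P with hRE
  have hiZE : ZE.index = p := by
    have h1 := h.relIndex_inter hsh.le fun e => hsh.notMem (e hsh.mem)
    rw [hsh.abelian hc] at h1
    exact h1
  have hREcard : Nat.card RE = Nat.card R :=
    Nat.card_congr (Subgroup.subgroupOfEquivOfLe (inf_le_right.trans hsh.zle)).toEquiv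
  have hmeet : ∀ g : MulAut P, ∃ r ∈ RE, r ≠ 1 ∧ r ∈ ZE.map g.toMonoidHom := by
    intro g
    by_contra hh
    push Not at hh
    have hbot : RE ⊓ ZE.map g.toMonoidHom = ⊥ := eq_bot_iff.2 fun r hr => Subgroup.mem_bot.2 (by
      by_contra hr1; exact hh r hr.1 hr1 hr.2)
    have h1 : (ZE.map g.toMonoidHom).relIndex RE ≤ p := by
      refine (Subgroup.relIndex_le_of_le_right le_top ?_).trans_eq ?_
      · rw [Subgroup.relIndex_top_right]; exact Subgroup.index_ne_zero_of_finite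
      · rw [Subgroup.relIndex_top_right,
          Subgroup.index_map_of_bijective (f := g.toMonoidHom) g.bijective, hiZE]
    rw [← Subgroup.inf_relIndex_left, hbot, Subgroup.relIndex_bot_left, hREcard] at h1
    omega
  have hcos : ∀ y : P, ∃ (n : ℤ) (z : P), (z : Ω) ∈ zc S ∧ y = (⟨x, hsh.mem⟩ : P) ^ n * z := by
    intro y
    obtain ⟨n, a, ha, hy⟩ := h.exists_zpow_mul hsh.memS hsh.notMem (hsh.le y.2)
    have haP : a ∈ P := (P.mul_mem_cancel_left (P.zpow_mem hsh.mem n)).1 (hy ▸ y.2)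
    exact ⟨n, ⟨a, haP⟩, (hsh.abelian hc).le ⟨haP, ha⟩, Subtype.ext hy⟩
  refine H87.essential_no_commuting hP (autInducedBy S P) (H85.autInducedBy_isPGroup hS P)
    (H85.autInducedBy_le_autGroup F hsh.le) fun g hg => ?_
  obtain ⟨r, hrR, hr1, hrg⟩ := hmeet g
  obtain ⟨r', hr'R, hr'1, hr'g⟩ := hmeet g⁻¹
  obtain ⟨a, haN, -, hafix, hax⟩ := exists_transvection h hsh hc (r := (r : Ω)) hrR
  obtain ⟨b, hbN, -, hbfix, hbx⟩ := exists_transvection h hsh hc (r := (r' : Ω)) hr'R
  set t := H85.conjAut S P ⟨a, haN⟩ with ht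
  set s := H85.conjAut S P ⟨b, hbN⟩ with hs
  have htx : t ⟨x, hsh.mem⟩ = ⟨x, hsh.mem⟩ * r := Subtype.ext hax
  have hsx : s ⟨x, hsh.mem⟩ = ⟨x, hsh.mem⟩ * r' := Subtype.ext hbx
  refine ⟨t, H85.conjAut_range S P ▸ ⟨_, rfl⟩, s, H85.conjAut_range S P ▸ ⟨_, rfl⟩, ?_, ?_, ?_⟩
  · intro hI
    rw [H87.inn_eq_one_of_comm hc hI, MulAut.one_apply] at htx
    exact hr1 (mul_eq_left.1 htx.symm)
  · intro hI
    rw [H87.inn_eq_one_of_comm hc hI, MulAut.one_apply] at hsx
    exact hr'1 (mul_eq_left.1 hsx.symm)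
  · have hcomm : ∀ u v : P, u * v = v * u := hc.is_comm.comm
    have hgr' : ((g r' : P) : Ω) ∈ zc S := by
      obtain ⟨w, hw, hwr⟩ := hr'g
      rw [show r' = g⁻¹ w from hwr.symm, MulAut.apply_inv_self]
      exact hw
    have hdr : (g * s * g⁻¹) r = r := by
      obtain ⟨w, hw, hwr⟩ := hrg
      rw [show r = g w from hwr.symm, MulAut.mul_apply, MulAut.mul_apply, MulAut.inv_apply_self,
        hbfix w hw]
    refine MulEquiv.ext fun y => ?_
    obtain ⟨n, z, hz, hy⟩ := hcos y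
    obtain ⟨m, w, hw, hy'⟩ := hcos (g⁻¹ y)
    have hd : (g * s * g⁻¹) y = y * g r' ^ m := by
      rw [MulAut.mul_apply, MulAut.mul_apply,
        transvection_apply hsh.mem hbfix hsx hr'R.2 hc hw hy', map_mul, map_zpow,
        MulAut.apply_inv_self]
    have ht' : t y = y * r ^ n := transvection_apply hsh.mem hafix htx hrR.2 hc hz hy
    show t ((g * s * g⁻¹) y) = (g * s * g⁻¹) (t y)
    rw [hd, ht', map_mul,
      map_mul, map_zpow, map_zpow, ht', hd, hafix _ hgr', hdr, mul_assoc, mul_assoc,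
      hcomm (r ^ n) (g r' ^ m)]

theorem relIndex_normalizer (h : Data p S A) (hF : F.IsSaturated p) (hP : F.IsEssential p P)
    (hsh : Shape P S A x p) : P.relIndex (normalizerIn S P) = p := by
  have hR := card_comm_center h hF hP hsh
  by_cases hc : IsMulCommutative ↥P
  · rw [relIndex_normalizer_abelian h hF hP hsh hc, hR]
  haveI : Finite ↥(normalizerIn S P) := H85.finite_of_le (H85.normalizerIn_le P)
  refine eq_prime_of_le (relIndex_pow (h.pgroup.to_le (H85.normalizerIn_le P))) (fun e => ?_) ?_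
  · exact (H85.lt_normalizerIn h.pgroup (hsh.ne_top h hF hP)).not_ge (relIndex_eq_one_iff.1 e)
  have hB : (P ⊓ A).subgroupOf A = ker2 h hsh.memS := by
    rw [(hsh.nonabelian hc).1, z2_eq h hR hsh.memS hsh.notMem, Subgroup.subgroupOf,
      Subgroup.comap_map_eq_self_of_injective A.subtype_injective]
  rw [relIndex_normalizer_map h hF hP hsh, hB]
  have hk : (ker2 h hsh.memS).relIndex ((ker2 h hsh.memS).comap (phi h hsh.memS)) =
      ((zc S).subgroupOf A).relIndex
        (((ker2 h hsh.memS).comap (phi h hsh.memS)).map (phi h hsh.memS)) :=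
    Subgroup.relIndex_comap _ _ _
  haveI : Finite A := H85.finite_of_le h.le
  rw [hk]
  refine (Subgroup.relIndex_le_of_le_right (Subgroup.map_comap_le _ _) ?_).trans_eq ?_
  · rw [relIndex_ker2 h hsh.memS hsh.notMem, hR]; exact hp.out.ne_zero
  · rw [relIndex_ker2 h hsh.memS hsh.notMem, hR]

end H75.AbelianIndex
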