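import Cfsg.Agent.H75.AbelianIndex.Normalizer

/-!
The kernels of the iterated commutator map.
-/

set_option autoImplicit false
set_option linter.style.haveILetI false

open Cfsg H75.SmallIndex
open scoped commutatorElement

namespace H75.AbelianIndex

variable {Ω : Type*} [Group Ω] {S A : Subgroup Ω} [Finite S] {p : ℕ} [hp : Fact p.Prime]

/-- The kernels of the powers of an endomorphism. -/
def kerPow {G : Type*} [Group G] (f : G →* G) : ℕ → Subgroup G
  | 0 => ⊥
  | i + 1 => (kerPow f i).comap f

theorem mem_kerPow {G : Type*} [Group G] (f : G →* G) :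
    ∀ (i : ℕ) (a : G), a ∈ kerPow f i ↔ f^[i] a = 1
  | 0, a => by simp [kerPow]
  | i + 1, a => by
    rw [Function.iterate_succ_apply]
    exact mem_kerPow f i (f a)

theorem card_kerPow_le {G : Type*} [Group G] [Finite G] (f : G →* G) {q : ℕ}
    (h : (kerPow f 1).relIndex (kerPow f 2) ≤ q) :
    ∀ i : ℕ, Nat.card (kerPow f (i + 1)) ≤ q ^ i * Nat.card (kerPow f 1) := by
  have hmono : ∀ i, kerPow f i ≤ kerPow f (i + 1) := by
    intro i
    induction i with
    | zero => exact bot_le
    | succ i ih => exact Subgroup.comap_mono ih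
  have hq : ∀ i, (kerPow f (i + 1)).relIndex (kerPow f (i + 2)) ≤ q := by
    intro i
    induction i with
    | zero => exact h
    | succ i ih =>
      show ((kerPow f (i + 1)).comap f).relIndex (kerPow f (i + 3)) ≤ q
      rw [Subgroup.relIndex_comap]
      exact (Subgroup.relIndex_le_of_le_right (Subgroup.map_comap_le _ _)
        Subgroup.index_ne_zero_of_finite).trans ih
  intro i
  induction i with
  | zero => simp
  | succ i ih =>
    have h1 := ((kerPow f (i + 1)).subgroupOf (kerPow f (i + 2))).card_mul_index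
    rw [Nat.card_congr (Subgroup.subgroupOfEquivOfLe (hmono (i + 1))).toEquiv] at h1
    calc Nat.card (kerPow f (i + 2)) = Nat.card (kerPow f (i + 1)) *
          ((kerPow f (i + 1)).subgroupOf (kerPow f (i + 2))).index := h1.symm
      _ ≤ q ^ i * Nat.card (kerPow f 1) * q := Nat.mul_le_mul ih (hq i)
      _ = q ^ (i + 1) * Nat.card (kerPow f 1) := by rw [pow_succ]; ring

theorem mem_lower (h : Data p S A) {x : Ω} (hx : x ∈ S) (k : ℕ) (a : A) :
    (((phi h hx)^[k] a : A) : Ω) ∈ Subgroup.lowerCentralSeries S k := by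
  induction k with
  | zero => exact h.le a.2
  | succ k ih =>
    rw [Subgroup.lowerCentralSeries_succ, Function.iterate_succ_apply', phi_apply,
      ← commutatorElement_inv]
    exact inv_mem (Subgroup.commutator_mem_commutator ih hx)

theorem exists_iterate_notMem (h : Data p S A) (hR : Nat.card ↥(⁅S, S⁆ ⊓ zc S) = p) {x : Ω}
    (hx : x ∈ S) (hxA : x ∉ A) {m : ℕ} (hm : (zc S).relIndex S = p ^ m) (hm2 : 2 ≤ m) :
    ∃ a : A, (((phi h hx)^[m - 2] a : A) : Ω) ∉ zc S := by
  haveI : Finite A := H85.finite_of_le h.le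
  by_contra hne
  push Not at hne
  obtain ⟨j, rfl⟩ := Nat.exists_eq_add_of_le hm2
  rw [Nat.add_sub_cancel_left] at hne
  set f := phi h hx with hf
  have h1 : kerPow f 1 = (zc S).subgroupOf A := by
    rw [← phi_ker h hx hxA, hf]; rfl
  have htop : kerPow f (j + 1) = ⊤ := by
    refine eq_top_iff.2 fun a _ => (mem_kerPow f _ a).2 ?_
    have := hne a
    have hk : f^[j] a ∈ kerPow f 1 := by rw [h1]; exact this
    rw [mem_kerPow] at hk
    rw [Function.iterate_succ_apply']
    simpa using hk
  have h2 : (kerPow f 1).relIndex (kerPow f 2) ≤ p := by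
    show (kerPow f 1).relIndex ((kerPow f 1).comap f) ≤ p
    rw [h1]
    exact le_of_eq ((relIndex_ker2 h hx hxA).trans hR)
  have h3 := card_kerPow_le f h2 j
  rw [htop, Subgroup.card_top, h1,
    Nat.card_congr (Subgroup.subgroupOfEquivOfLe h.zc_le).toEquiv] at h3
  have h4 := Subgroup.relIndex_mul_relIndex (zc S) A S h.zc_le h.le
  rw [h.idx, hm] at h4
  have h5 := ((zc S).subgroupOf A).card_mul_index
  rw [Nat.card_congr (Subgroup.subgroupOfEquivOfLe h.zc_le).toEquiv] at h5
  have h6 : (zc S).relIndex A = p ^ (j + 1) := by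
    refine Nat.eq_of_mul_eq_mul_right hp.out.pos ?_
    rw [h4, ← pow_succ]; ring_nf
  have h5' : Nat.card ↥(zc S) * (zc S).relIndex A = Nat.card A := h5
  rw [← h5', h6, pow_succ, mul_comm (p ^ j) (Nat.card _), ← mul_assoc] at h3
  haveI : Finite ↥(zc S) := H85.finite_of_le (H75.SmallIndex.zc_le S)
  have hpos : 0 < Nat.card ↥(zc S) * p ^ j := Nat.mul_pos Nat.card_pos (pow_pos hp.out.pos _)
  have : p ≤ 1 := Nat.le_of_mul_le_mul_left (h3.trans_eq (mul_one _).symm) hpos
  exact absurd this (not_le.2 hp.out.one_lt)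

end H75.AbelianIndex
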