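import Cfsg.Agent.H75.AbelianIndex.Stabilizer

/-!
Shape of the essential subgroups different from the abelian subgroup of index `p`.
-/

set_option autoImplicit false
set_option linter.style.haveILetI false

open Cfsg Cfsg.FusionSystem H75.SmallIndex
open scoped commutatorElement

namespace H75.AbelianIndex

variable {Ω : Type*} [Group Ω] {S A : Subgroup Ω} [Finite S] {p : ℕ} [hp : Fact p.Prime]

/-- The second centre as a subgroup of the ambient group. -/
def z2 (S : Subgroup Ω) : Subgroup Ω := (upperCentralSeries ↥S 2).map S.subtype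

omit [Finite S] in
theorem mem_z2 {y : Ω} : y ∈ z2 S ↔ y ∈ S ∧ ∀ g ∈ S, ⁅y, g⁆ ∈ zc S := by
  have hmem : ∀ u : S, u ∈ upperCentralSeries ↥S 1 ↔ (u : Ω) ∈ zc S := fun u => by
    rw [show upperCentralSeries ↥S 1 = Subgroup.center ↥S from Subgroup.upperCentralSeries_one _,
      ← zc_subgroupOf, Subgroup.mem_subgroupOf]
  constructor
  · rintro ⟨u, hu, rfl⟩
    refine ⟨u.2, fun g hg => ?_⟩
    exact (hmem ⁅u, ⟨g, hg⟩⁆).1 (Subgroup.mem_upperCentralSeries_succ_iff.1 hu ⟨g, hg⟩)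
  · rintro ⟨hy, hg⟩
    refine ⟨⟨y, hy⟩, Subgroup.mem_upperCentralSeries_succ_iff.2 fun g => ?_, rfl⟩
    exact (hmem ⁅(⟨y, hy⟩ : S), g⁆).2 (hg g g.2)

omit [Finite S] hp in
theorem relIndex_pow {B T : Subgroup Ω} [Fact p.Prime] [Finite T] (hT : IsPGroup p T) :
    ∃ i, B.relIndex T = p ^ i := by
  obtain ⟨k, hk⟩ := IsPGroup.iff_card.1 hT
  obtain ⟨i, -, hi⟩ := (Nat.dvd_prime_pow Fact.out).1
    (hk ▸ Subgroup.index_dvd_card (B.subgroupOf T))
  exact ⟨i, hi⟩

theorem eq_prime_of_le {n : ℕ} (h : ∃ i, n = p ^ i) (h1 : n ≠ 1) (hle : n ≤ p) : n = p := by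
  obtain ⟨i, rfl⟩ := h
  have hi : i ≤ 1 := (Nat.pow_le_pow_iff_right hp.out.one_lt).1 (hle.trans_eq (pow_one p).symm)
  have hi0 : i ≠ 0 := fun e => h1 (by rw [e, pow_zero])
  rw [show i = 1 by omega, pow_one]

theorem Data.relIndex_inter (h : Data p S A) {T : Subgroup Ω} (hT : T ≤ S) (hTA : ¬ T ≤ A) :
    (T ⊓ A).relIndex T = p := by
  haveI : Finite T := H85.finite_of_le hT
  rw [inf_comm, Subgroup.inf_relIndex_right]
  refine eq_prime_of_le (relIndex_pow (h.pgroup.to_le hT))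
    (fun e => hTA (relIndex_eq_one_iff.1 e)) ?_
  rw [← h.idx]
  exact Subgroup.relIndex_le_of_le_right hT (by rw [h.idx]; exact hp.out.ne_zero)

theorem Data.exists_notMem (h : Data p S A) {P : Subgroup Ω} {F : FusionSystem S}
    (hP : F.IsEssential p P) (hPA : P ≠ A) : ∃ x ∈ P, x ∉ A := by
  by_contra hne
  push Not at hne
  exact hPA (le_antisymm hne fun a ha =>
    H87.essential_centric hP (h.le ha) fun e he => (h.commute (hne e he) ha).eq)

/-- The kernel of the square of the commutator map. -/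
def ker2 (h : Data p S A) {x : Ω} (hx : x ∈ S) : Subgroup ↥A :=
  ((zc S).subgroupOf A).comap (phi h hx)

theorem relIndex_ker2 (h : Data p S A) {x : Ω} (hx : x ∈ S) (hxA : x ∉ A) :
    ((zc S).subgroupOf A).relIndex (ker2 h hx) = Nat.card ↥(⁅S, S⁆ ⊓ zc S) := by
  rw [← phi_ker h hx hxA, Subgroup.relIndex_ker, ker2, Subgroup.map_comap_eq,
    ← Subgroup.card_map_of_injective (f := A.subtype) A.subtype_injective,
    Subgroup.map_inf _ _ _ A.subtype_injective, phi_range h hx hxA,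
    Subgroup.map_subgroupOf_eq_of_le h.zc_le]

theorem z2_eq (h : Data p S A) (hR : Nat.card ↥(⁅S, S⁆ ⊓ zc S) = p) {x : Ω} (hx : x ∈ S)
    (hxA : x ∉ A) : z2 S = (ker2 h hx).map A.subtype := by
  refine le_antisymm (fun y hy => ?_) ?_
  · obtain ⟨hyS, hyg⟩ := mem_z2.1 hy
    have hyA : y ∈ A := by
      by_contra hyA
      have hle : ⁅S, S⁆ ≤ zc S := by
        rw [← phi_range h hyS hyA]
        rintro _ ⟨_, ⟨a, rfl⟩, rfl⟩
        exact hyg a (h.le a.2)
      have := h.big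
      rw [inf_eq_left.2 hle] at hR
      omega
    refine ⟨⟨y, hyA⟩, ?_, rfl⟩
    show ⁅x, y⁆ ∈ zc S
    rw [← commutatorElement_inv]
    exact (zc S).inv_mem (hyg x hx)
  · rintro _ ⟨a, ha, rfl⟩
    refine mem_z2.2 ⟨h.le a.2, fun g hg => ?_⟩
    rw [← commutatorElement_inv]
    refine (zc S).inv_mem ?_
    let C : Subgroup Ω :=
      { carrier := {g | g ∈ S ∧ ⁅g, (a : Ω)⁆ ∈ zc S}
        one_mem' := ⟨S.one_mem, by simp [commutatorElement_def]⟩
        mul_mem' := fun {u v} hu hv => ⟨S.mul_mem hu.1 hv.1, by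
          have e : ⁅u * v, (a : Ω)⁆ = u * ⁅v, (a : Ω)⁆ * u⁻¹ * ⁅u, (a : Ω)⁆ := by
            rw [commutatorElement_def, commutatorElement_def, commutatorElement_def]; group
          rw [e, (mem_zc.1 hv.2).2 u hu.1, mul_inv_cancel_right]
          exact (zc S).mul_mem hv.2 hu.2⟩
        inv_mem' := fun {u} hu => ⟨S.inv_mem hu.1, by
          have e : ⁅u⁻¹, (a : Ω)⁆ = u⁻¹ * ⁅u, (a : Ω)⁆⁻¹ * u := by
            rw [commutatorElement_def, commutatorElement_def]; group
          rw [e, (mem_zc.1 ((zc S).inv_mem hu.2)).2 u⁻¹ (S.inv_mem hu.1), inv_mul_cancel_right]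
          exact (zc S).inv_mem hu.2⟩ }
    have hAC : A ≤ C := fun b hb => ⟨h.le hb, by
      rw [commutatorElement_eq_one_iff_mul_comm.2 (h.commute hb a.2).eq]; exact one_mem _⟩
    have hle : S ≤ C := by
      intro u hu
      obtain ⟨n, b, hb, rfl⟩ := h.exists_zpow_mul hx hxA hu
      exact C.mul_mem (C.zpow_mem ⟨hx, ha⟩ n) (hAC hb)
    exact (hle hg).2

/-- The shape of an essential subgroup `P ≠ A`. -/
structure Shape (P : Subgroup Ω) (S A : Subgroup Ω) (x : Ω) (p : ℕ) : Prop where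
  le : P ≤ S
  mem : x ∈ P
  notMem : x ∉ A
  eq : P = (P ⊓ A) ⊔ Subgroup.zpowers x
  zle : zc S ≤ P
  abelian : IsMulCommutative ↥P → P ⊓ A = zc S
  nonabelian : ¬ IsMulCommutative ↥P → P ⊓ A = z2 S ∧ Nat.card ↥(⁅S, S⁆ ⊓ zc S) = p

theorem normalizes_iff (h : Data p S A) {P : Subgroup Ω} (hPS : P ≤ S) {x : Ω} (hx : x ∈ P)
    (hxA : x ∉ A) (heq : P = (P ⊓ A) ⊔ Subgroup.zpowers x) (a : A) :
    (a : Ω) ∈ normalizerIn S P ↔ phi h (hPS hx) a ∈ (P ⊓ A).subgroupOf A := by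
  haveI : Finite P := H85.finite_of_le hPS
  constructor
  · intro ha
    refine Subgroup.mem_subgroupOf.2 ⟨?_, h.comm_mem (hPS hx) a.2⟩
    show ⁅x, (a : Ω)⁆ ∈ P
    have h1 := H85.conj_mem_of_mem_normalizer ha.2 (P.inv_mem hx)
    have h2 := P.mul_mem hx h1
    rw [commutatorElement_def]
    simpa [mul_assoc] using h2
  · intro ha
    refine ⟨h.le a.2, H85.mem_normalizer_of_conj fun y hy => ?_⟩
    have hle : P ≤ P.comap (MulAut.conj (a : Ω)).toMonoidHom := by
      conv_lhs => rw [heq]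
      refine sup_le (fun b hb => ?_) (Subgroup.zpowers_le.2 ?_)
      · show (a : Ω) * b * (a : Ω)⁻¹ ∈ P
        rw [(h.commute a.2 hb.2).eq, mul_inv_cancel_right]
        exact hb.1
      · show (a : Ω) * x * (a : Ω)⁻¹ ∈ P
        have hb : ⁅x, (a : Ω)⁆ ∈ P := ha.1
        have e : (a : Ω) * x * (a : Ω)⁻¹ = ⁅x, (a : Ω)⁆⁻¹ * x := by
          rw [commutatorElement_def]; group
        rw [e]
        exact P.mul_mem (P.inv_mem hb) hx
    exact hle hy

theorem exists_shape (h : Data p S A) {F : FusionSystem S} (hF : F.IsSaturated p) {P : Subgroup Ω}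
    (hP : F.IsEssential p P) (hPA : P ≠ A) : ∃ x, Shape P S A x p := by
  have hS := h.pgroup
  obtain ⟨x, hxP, hxA⟩ := h.exists_notMem hP hPA
  have hPS : P ≤ S := hP.1.1
  have hxS := hPS hxP
  haveI : Finite P := H85.finite_of_le hPS
  have hiB : (P ⊓ A).relIndex P = p := h.relIndex_inter hPS fun e => hxA (e hxP)
  have hxB : x ∉ P ⊓ A := fun e => hxA e.2
  have heq : P = (P ⊓ A) ⊔ Subgroup.zpowers x := eq_sup_of_index inf_le_left hiB hxP hxB
  have hZP : zc S ≤ P := fun z hz =>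
    H87.essential_centric hP (H75.SmallIndex.zc_le S hz) fun e he => (mem_zc.1 hz).2 e (hPS he)
  have hZB : zc S ≤ P ⊓ A := le_inf hZP h.zc_le
  refine ⟨x, hPS, hxP, hxA, heq, hZP, fun hc => ?_, fun hnc => ?_⟩
  · refine le_antisymm (fun b hb => ?_) hZB
    exact h.mem_zc_of_commute hxS hxA hb.2 (H11.comm_of_mulCommutative hc hxP hb.1)
  -- the nonabelian case
  set B : Subgroup P := (P ⊓ A).subgroupOf P with hB
  have hiB' : B.index = p := hiB
  have hBne : P ⊓ A ≠ zc S := fun e => hnc (by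
    rw [heq, e]
    refine H11.isMulCommutative_sup (H11.isMulCommutative_of_le h.comm (e ▸ inf_le_right))
      (H11.isMulCommutative_of_commute fun u hu v hv => ?_)
      fun u hu v hv => ((mem_zc.1 hu).2 v (hPS (Subgroup.zpowers_le.2 hxP hv))).symm
    obtain ⟨i, rfl⟩ := Subgroup.mem_zpowers_iff.1 hu
    obtain ⟨j, rfl⟩ := Subgroup.mem_zpowers_iff.1 hv
    rw [← zpow_add, ← zpow_add, add_comm])
  have hPne : P ≠ S := H89.essential_ne_top hS hF hP
  have hmapB : B.map P.subtype = P ⊓ A := Subgroup.map_subgroupOf_eq_of_le inf_le_left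
  have hBnorm : B.Normal := by
    refine ⟨fun b hb g => Subgroup.mem_subgroupOf.2 ⟨(g * b * g⁻¹).2, ?_⟩⟩
    exact H85.conj_mem_of_mem_normalizer (h.normalizes (hPS g.2)) hb.2
  -- cosets of `B`
  have hPcos : ∀ y ∈ P, ∃ n : ℤ, ∃ b ∈ P ⊓ A, y = x ^ n * b := by
    intro y hy
    obtain ⟨n, a, ha, rfl⟩ := h.exists_zpow_mul hxS hxA (hPS hy)
    exact ⟨n, a, ⟨(P.mul_mem_cancel_left (P.zpow_mem hxP n)).1 hy, ha⟩, rfl⟩
  -- `B` is not invariant
  obtain ⟨α, hα, b₁, hb₁, hb₁'⟩ : ∃ α ∈ F.autGroup P, ∃ b ∈ B, α b ∉ B := by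
    by_contra hne
    push Not at hne
    have hNA : ∀ a ∈ A, a ∈ Subgroup.normalizer (P : Set Ω) → a ∈ P := by
      intro a ha haN
      refine mem_of_stabilizes hS hP (fun α hα b hb => hne α hα b hb) (h.le ha) haN
        (fun b hb => (h.commute ha hb.2).eq) fun y => ?_
      rw [hmapB]
      refine ⟨P.mul_mem (P.inv_mem y.2) (H85.conj_mem_of_mem_normalizer haN y.2), ?_⟩
      have e : (y : Ω)⁻¹ * (a * y * a⁻¹) = ⁅(y : Ω)⁻¹, a⁆ := by
        rw [commutatorElement_def]; group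
      rw [e]
      exact h.comm_mem (S.inv_mem (hPS y.2)) ha
    refine (H85.lt_normalizerIn hS (lt_of_le_of_ne hPS hPne)).not_ge fun n hn => ?_
    obtain ⟨i, a, ha, rfl⟩ := h.exists_zpow_mul hxS hxA hn.1
    refine P.mul_mem (P.zpow_mem hxP i) (hNA a ha ?_)
    exact (Subgroup.mul_mem_cancel_left _ (Subgroup.le_normalizer (P.zpow_mem hxP i))).1 hn.2
  set B' := B.map α.toMonoidHom with hB'
  have hiB2 : B'.index = p := by
    rw [hB', Subgroup.index_map_of_bijective (f := α.toMonoidHom) α.bijective, hiB']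
  have hBc : ∀ u v : P, u ∈ B → v ∈ B → u * v = v * u := fun u v hu hv =>
    Subtype.ext (h.commute hu.2 hv.2)
  have hBc' : ∀ u v : P, u ∈ B' → v ∈ B' → u * v = v * u := by
    rintro _ _ ⟨u, hu, rfl⟩ ⟨v, hv, rfl⟩
    rw [← map_mul, hBc u v hu hv, map_mul]
  haveI := hBnorm
  haveI hB'norm : B'.Normal := hBnorm.map α.toMonoidHom α.surjective
  have htop : B ⊔ B' = ⊤ := by
    have hdvd : (B ⊔ B').index ∣ p := hiB' ▸ Subgroup.index_dvd_of_le le_sup_left
    refine Subgroup.index_eq_one.1 (((Nat.dvd_prime hp.out).1 hdvd).resolve_right fun e => ?_)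
    have hBe : B = B ⊔ B' := by
      refine Subgroup.eq_of_le_of_card_ge le_sup_left (le_of_eq ?_)
      have e1 := B.card_mul_index
      have e2 := (B ⊔ B').card_mul_index
      rw [hiB'] at e1
      rw [e] at e2
      exact Nat.eq_of_mul_eq_mul_right hp.out.pos (e2.trans e1.symm)
    exact hb₁' (hBe.ge (Subgroup.mem_sup_right ⟨b₁, hb₁, rfl⟩))
  set ZE : Subgroup P := (zc S).subgroupOf P with hZE
  have hZEB : ZE ≤ B := fun z hz => Subgroup.mem_subgroupOf.2 (hZB hz)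
  have hBB' : B ⊓ B' ≤ ZE := by
    intro z hz
    have hcen : (⊤ : Subgroup P) ≤ Subgroup.centralizer ({z} : Set P) := by
      rw [← htop]
      refine sup_le (fun u hu => ?_) (fun u hu => ?_)
      · exact Subgroup.mem_centralizer_singleton_iff.2 (hBc u z hu hz.1)
      · exact Subgroup.mem_centralizer_singleton_iff.2 (hBc' u z hu hz.2)
    refine h.mem_zc_of_commute hxS hxA hz.1.2 ?_
    exact congrArg Subtype.val
      (Subgroup.mem_centralizer_singleton_iff.1 (hcen (Subgroup.mem_top ⟨x, hxP⟩)))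
  have hZBi : ZE.relIndex B = p := by
    haveI : Finite B := inferInstance
    refine eq_prime_of_le ?_ (fun e => hBne (le_antisymm ?_ hZB)) ?_
    · obtain ⟨k, hk⟩ := IsPGroup.iff_card.1 ((hS.to_le hPS).to_subgroup B)
      obtain ⟨i, -, hi⟩ := (Nat.dvd_prime_pow hp.out).1
        (hk ▸ Subgroup.index_dvd_card (ZE.subgroupOf B))
      exact ⟨i, hi⟩
    · intro b hb
      exact Subgroup.relIndex_eq_one.1 e (show (⟨b, hb.1⟩ : P) ∈ B from hb)
    · calc ZE.relIndex B ≤ (B ⊓ B').relIndex B :=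
            Subgroup.relIndex_le_of_le_left hBB' (by
              rw [Subgroup.relIndex]; exact Subgroup.index_ne_zero_of_finite)
        _ = B'.relIndex B := by rw [Subgroup.inf_relIndex_left]
        _ ≤ B'.relIndex ⊤ := Subgroup.relIndex_le_of_le_right le_top (by
              rw [Subgroup.relIndex_top_right]; exact Subgroup.index_ne_zero_of_finite)
        _ = p := by rw [Subgroup.relIndex_top_right, hiB2]
  have hq : ∀ {H : Subgroup P} [H.Normal], H.index = p → ∀ u v : P, ⁅u, v⁆ ∈ H := by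
    intro H _ hH u v
    haveI : IsCyclic (P ⧸ H) := isCyclic_of_prime_card (p := p)
      (by rw [← Subgroup.index_eq_card, hH])
    letI : CommGroup (P ⧸ H) := IsCyclic.commGroup
    rw [← QuotientGroup.eq_one_iff, ← QuotientGroup.mk'_apply, map_commutatorElement,
      commutatorElement_eq_one_iff_mul_comm]
    exact mul_comm _ _
  have hBk : P ⊓ A ≤ (ker2 h hxS).map A.subtype := by
    intro b hb
    refine ⟨⟨b, hb.2⟩, ?_, rfl⟩
    show ⁅x, b⁆ ∈ zc S
    exact hBB' (show ⁅(⟨x, hxP⟩ : P), ⟨b, hb.1⟩⁆ ∈ B ⊓ B' from ⟨hq hiB' _ _, hq hiB2 _ _⟩)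
  -- elements of `A` moving `P` into the centre
  have hkB : (ker2 h hxS).map A.subtype ≤ P ⊓ A := by
    rintro _ ⟨a, ha, rfl⟩
    refine ⟨?_, a.2⟩
    have hka : ⁅x, (a : Ω)⁆ ∈ zc S := ha
    have haN : (a : Ω) ∈ normalizerIn S P :=
      (normalizes_iff h hPS hxP hxA heq a).2 (Subgroup.mem_subgroupOf.2 (hZB hka))
    have hcentral : ∀ α ∈ F.autGroup P, ∀ z ∈ ZE, α z ∈ ZE := by
      intro α hα z hz
      have hzc : ∀ w : P, α z * w = w * α z := by
        intro w
        obtain ⟨w, rfl⟩ := α.surjective w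
        rw [← map_mul, ← map_mul]
        exact congrArg α (Subtype.ext ((mem_zc.1 hz).2 w (hPS w.2)).symm)
      have hmem : α z ∈ B := by
        by_contra hzB
        obtain ⟨n, b, hb, hzeq⟩ := hPcos _ (α z).2
        -- `α z` outside `A` centralizes `B`
        refine hBne (le_antisymm (fun u hu => ?_) hZB)
        refine h.mem_zc_of_commute (hPS (α z).2) (fun e => hzB ⟨(α z).2, e⟩) hu.2 ?_
        exact congrArg Subtype.val (hzc ⟨u, hu.1⟩)
      exact h.mem_zc_of_commute hxS hxA hmem.2 (congrArg Subtype.val (hzc ⟨x, hxP⟩)).symm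
    refine mem_of_stabilizes hS hP hcentral (h.le a.2) haN.2
      (fun z hz => (mem_zc.1 hz).2 a (h.le a.2)) fun y => ?_
    rw [show ZE.map P.subtype = zc S from Subgroup.map_subgroupOf_eq_of_le hZP]
    obtain ⟨i, b, hb, hy⟩ := hPcos y y.2
    have hz : ⁅x ^ i, (a : Ω)⁆ ∈ zc S := by
      let D : Subgroup Ω :=
        { carrier := {g | g ∈ S ∧ ⁅g, (a : Ω)⁆ ∈ zc S}
          one_mem' := ⟨S.one_mem, by simp [commutatorElement_def]⟩
          mul_mem' := fun {u v} hu hv => ⟨S.mul_mem hu.1 hv.1, by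
            have e : ⁅u * v, (a : Ω)⁆ = u * ⁅v, (a : Ω)⁆ * u⁻¹ * ⁅u, (a : Ω)⁆ := by
              rw [commutatorElement_def, commutatorElement_def, commutatorElement_def]; group
            rw [e, (mem_zc.1 hv.2).2 u hu.1, mul_inv_cancel_right]
            exact (zc S).mul_mem hv.2 hu.2⟩
          inv_mem' := fun {u} hu => ⟨S.inv_mem hu.1, by
            have e : ⁅u⁻¹, (a : Ω)⁆ = u⁻¹ * ⁅u, (a : Ω)⁆⁻¹ * u := by
              rw [commutatorElement_def, commutatorElement_def]; group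
            rw [e, (mem_zc.1 ((zc S).inv_mem hu.2)).2 u⁻¹ (S.inv_mem hu.1), inv_mul_cancel_right]
            exact (zc S).inv_mem hu.2⟩ }
      exact (D.zpow_mem (show x ∈ D from ⟨hxS, hka⟩) i).2
    have e1 : (a : Ω) * y * (a : Ω)⁻¹ = ⁅x ^ i, (a : Ω)⁆⁻¹ * y := by
      have e2 : (a : Ω) * (x ^ i * b) * (a : Ω)⁻¹ =
          ⁅x ^ i, (a : Ω)⁆⁻¹ * (x ^ i * ((a : Ω) * b * (a : Ω)⁻¹)) := by
        rw [commutatorElement_def]; group
      rw [hy, e2, (h.commute a.2 hb.2).eq, mul_inv_cancel_right]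
    show (y : Ω)⁻¹ * ((a : Ω) * y * (a : Ω)⁻¹) ∈ zc S
    rw [e1, ← mul_assoc, (mem_zc.1 ((zc S).inv_mem hz)).2 (y : Ω)⁻¹ (S.inv_mem (hPS y.2)),
      inv_mul_cancel_right]
    exact (zc S).inv_mem hz
  have hBeq : P ⊓ A = (ker2 h hxS).map A.subtype := le_antisymm hBk hkB
  have hR : Nat.card ↥(⁅S, S⁆ ⊓ zc S) = p := by
    rw [← relIndex_ker2 h hxS hxA, ← Subgroup.relIndex_map_map_of_injective _ _ A.subtype_injective,
      Subgroup.map_subgroupOf_eq_of_le h.zc_le, ← hBeq, ← hmapB,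
      show zc S = ZE.map P.subtype from (Subgroup.map_subgroupOf_eq_of_le hZP).symm,
      Subgroup.relIndex_map_map_of_injective _ _ P.subtype_injective, hZBi]
  exact ⟨hBeq.trans (z2_eq h hR hxS hxA).symm, hR⟩

end H75.AbelianIndex
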